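import Groth.Agent.H27Isog.Forward
import Mathlib

/-!
# Reversing isogenies onto products of Witt groups
-/

set_option autoImplicit false
set_option linter.style.haveILetI false
universe u

noncomputable section

namespace Groth.Agent.H27Isog

open H27PGrp H27Witt

variable {p : ℕ} [hp : Fact p.Prime] {k : Type u} [Field k] [CharP k p] [IsAlgClosed k] [PerfectRing k p]

/-- endomorphisms with finite kernel are surjective -/
theorem surjective_of_finite_ker {n : ℕ} (φ : TruncatedWittVector p n k →+ TruncatedWittVector p n k)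
    (hφ : IsAlgMap φ) (hfin : {x | φ x = 0}.Finite) : Function.Surjective φ := by
  cases n with
  | zero => exact fun b => ⟨0, TruncatedWittVector.ext fun i => i.elim0⟩
  | succ n =>
    obtain ⟨a, ha⟩ := exists_leading_ne_zero φ hfin
    obtain ⟨Q, hadd, hQ⟩ := exists_leading φ hφ
    exact surjective_of_leading φ Q hadd (fun h => ha (by rw [hQ, h, Polynomial.eval_zero])) hQ

omit [PerfectRing k p] in
/-- iterated Frobenius -/
theorem exists_frob_pow [PerfectRing k p] (m E : ℕ) :
    ∃ φ : TruncatedWittVector p m k →+ TruncatedWittVector p m k, IsAlgMap φ ∧ {x | φ x = 0}.Finite ∧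
      ∀ y i, (φ y).coeff i = y.coeff i ^ p ^ E := by
  induction E with
  | zero =>
    refine ⟨AddMonoidHom.id _, ?_, (Set.finite_singleton 0).subset fun x hx => hx, fun y i => by simp⟩
    show IsAlgMap fun a : TruncatedWittVector p m k => a
    simpa using isAlgMap_mul (p := p) (k := k) (1 : TruncatedWittVector p m k)
  | succ E ih =>
    obtain ⟨φ, hφ, hφf, e⟩ := ih
    have hk : (p : k) = 0 := CharP.cast_eq_zero k p
    refine ⟨(WittGrp.frob p m (R := k) hk).toAddMonoidHom.comp φ, (isAlgMap_frob hk).comp hφ,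
      finite_ker_comp φ (WittGrp.frob p m (R := k) hk).toAddMonoidHom hφf (finite_ker_frob hk), fun y i => ?_⟩
    change (WittGrp.frob p m hk (φ y)).coeff i = _
    rw [WittGrp.coeff_frob, e, ← pow_mul, ← pow_succ]

variable {B : Type u} [CommRing B] [Algebra k B] [Algebra.Smooth k B] [IsDomain B] (G : PGrp k B)

/-- an isogeny onto a product of Witt groups has a reverse isogeny -/
theorem exists_reverse (N : ℕ) (hN : ∀ x : G.P, p ^ N • x = 0) {ι : Type} [Finite ι] {nn : ι → ℕ}
    (v : ∀ i, TruncatedWittVector p (nn i) B) (hv : ∀ i, G.IsAddW (v i))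
    (hker : {x | toPts G v hv x = 0}.Finite) (hsurj : Function.Surjective (toPts G v hv)) :
    ∃ (g : B →ₐ[k] MvPolynomial (Coord nn) k) (Φ : Pts p k nn →+ G.P),
      (∀ z, G.pt (Φ z) = (evalPts nn z).comp g) ∧ {z | Φ z = 0}.Finite ∧ Function.Surjective Φ := by
  classical
  haveI : Fintype ι := Fintype.ofFinite ι
  obtain ⟨r, mm, w, hw, hgen⟩ := PGrp.emb (p := p) G N hN
  have hWinj : Function.Injective (toPts G w hw) := (injective_iff_map_eq_zero _).mpr fun x hx => by
    refine G.pt.injective (AlgHom.ext_of_adjoin_eq_top hgen ?_)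
    intro b hb
    obtain ⟨i, j, rfl⟩ := Set.mem_iUnion.mp hb
    rw [← coeff_tm, ← coeff_tm, ← toPts_apply G w hw x, hx, (hw i).zero G]
    rfl
  choose β hβ hβf hβK using fun i => exists_killing (p := p) (k := k) (mm i)
    (hker.toFinset.image fun x => toPts G w hw x i)
  choose w' hw' using fun i => exists_of_isAlgMap (A := B) (hβ i) (w i)
  have hfac : ∀ s : Coord mm, ∃ (e : ℕ) (Q : MvPolynomial (Coord nn) k),
      ∀ ψ : B →ₐ[k] k, ψ ((w' s.1).coeff s.2) ^ p ^ e = ψ (pullPts v Q) := fun s => by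
    refine exists_factor (p := p) (pullPts v) (fun χ => ?_) _ fun ψ ψ' h => ?_
    · obtain ⟨x, hx⟩ := hsurj ((evalPts nn).symm χ)
      exact ⟨G.pt x, by rw [pt_comp_pullPts G v hv, hx, Equiv.apply_symm_apply]⟩
    · obtain ⟨x, rfl⟩ := G.pt.surjective ψ
      obtain ⟨x', rfl⟩ := G.pt.surjective ψ'
      rw [pt_comp_pullPts G v hv, pt_comp_pullPts G v hv] at h
      have hxx : x - x' ∈ hker.toFinset := hker.mem_toFinset.mpr (by
        change toPts G v hv (x - x') = 0
        rw [map_sub, (evalPts nn).injective h, sub_self])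
      have h2 := hβK s.1 _ (Finset.mem_image_of_mem (fun x => toPts G w hw x s.1) hxx)
      rw [map_sub, Pi.sub_apply, map_sub, sub_eq_zero, toPts_apply, toPts_apply, ← hw', ← hw'] at h2
      rw [← coeff_tm, ← coeff_tm, h2]
  choose e Q hQ using hfac
  let E := Finset.univ.sup e
  choose F hF hFf eF using fun i : Fin r => exists_frob_pow (p := p) (k := k) (mm i) E
  let β' : ∀ i, TruncatedWittVector p (mm i) k →+ TruncatedWittVector p (mm i) k := fun i => (F i).comp (β i)
  let Qv : ∀ i, TruncatedWittVector p (mm i) (MvPolynomial (Coord nn) k) := fun i =>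
    TruncatedWittVector.mk p fun j => Q ⟨i, j⟩ ^ p ^ (E - e ⟨i, j⟩)
  have hα : ∀ i x, β' i (toPts G w hw x i) = tm (evalPts nn (toPts G v hv x)) (Qv i) := fun i x => by
    refine TruncatedWittVector.ext fun j => ?_
    change ((F i) (β i _)).coeff j = _
    rw [eF, toPts_apply, ← hw', coeff_tm, coeff_tm, TruncatedWittVector.coeff_mk, map_pow, ← pt_comp_pullPts G v hv,
      AlgHom.comp_apply, ← hQ, ← pow_mul, ← pow_add, Nat.add_sub_cancel' (Finset.le_sup (Finset.mem_univ _))]
  let α : ∀ i, Pts p k nn →+ TruncatedWittVector p (mm i) k := fun i =>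
    AddMonoidHom.mk' (fun z => tm (evalPts nn z) (Qv i)) fun z z' => by
      obtain ⟨x, rfl⟩ := hsurj z
      obtain ⟨x', rfl⟩ := hsurj z'
      rw [← map_add, ← hα, ← hα, ← hα, map_add, Pi.add_apply, map_add]
  choose τ σ hτ hτf hσ eτ using fun j => exists_ore_family (p := p) (n := nn j) mm
    (fun i => (α i).comp (AddMonoidHom.single (fun j => TruncatedWittVector p (nn j) k) j))
    (fun i => isAlgMap_of_single nn j (Qv i)) β' (fun i => (hF i).comp (hβ i))
    fun i => finite_ker_comp (β i) (F i) (hβf i) (hFf i)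
  let T : Pts p k nn →+ Pts p k nn := AddMonoidHom.mk' (fun z j => τ j (z j)) fun z z' => funext fun j => by
    simp only [Pi.add_apply, map_add]
  let Sg : Pts p k nn →+ Pts p k mm := AddMonoidHom.mk' (fun z i => ∑ j, σ j i (z j)) fun z z' => funext fun i => by
    simp only [Pi.add_apply, map_add, Finset.sum_add_distrib]
  have hrel : ∀ z i, α i (T z) = β' i (Sg z i) := fun z i => by
    change _ = β' i (∑ j, σ j i (z j))
    rw [map_sum, ← Finset.univ_sum_single (T z), map_sum]
    exact Finset.sum_congr rfl fun j _ => eτ j i (z j)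
  -- the lift is defined on everything
  let s : Pts p k nn →+ Pts p k nn × Pts p k mm := T.prod Sg
  let h : G.P →+ Pts p k nn × Pts p k mm := (toPts G v hv).prod (toPts G w hw)
  let L : AddSubgroup (Pts p k nn) := h.range.comap s
  let D : Set (Pts p k mm) := {d | ∀ i, β' i (d i) = 0}
  have hD : D.Finite :=
    (Set.Finite.pi fun i => finite_ker_comp (β i) (F i) (hβf i) (hFf i)).subset fun d hd i _ => hd i
  let Ad : Pts p k mm → Set (Pts p k nn) := fun d => {z | ∃ x, h x = s z + (0, d)}
  let c : Pts p k mm → Pts p k nn := fun d => if hne : (Ad d).Nonempty then hne.some else 0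
  have hcov : ∀ z, ∃ y ∈ c '' D, z - y ∈ L := fun z => by
    obtain ⟨x, hx⟩ := hsurj (T z)
    let d := toPts G w hw x - Sg z
    have hd : d ∈ D := fun i => by
      change β' i (toPts G w hw x i - Sg z i) = 0
      rw [map_sub, hα, hx, ← hrel, sub_eq_zero]
      rfl
    have hz : z ∈ Ad d := ⟨x, Prod.ext (by simp [h, s, hx]) (by simp [h, s, d])⟩
    refine ⟨c d, ⟨d, hd, rfl⟩, ?_⟩
    have hne : (Ad d).Nonempty := ⟨z, hz⟩
    have hc : c d ∈ Ad d := by
      simp only [c, dif_pos hne]
      exact hne.some_mem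
    obtain ⟨x₁, hx₁⟩ := hz
    obtain ⟨x₂, hx₂⟩ := hc
    refine ⟨x₁ - x₂, ?_⟩
    rw [map_sub, map_sub, hx₁, hx₂, add_sub_add_right_eq_sub]
  -- coordinates of the lift
  choose τv hτv using fun j => exists_of_isAlgMap (A := MvPolynomial (Coord nn) k) (hτ j) (crd (p := p) nn j)
  choose σv hσv using fun j i => exists_of_isAlgMap (A := MvPolynomial (Coord nn) k) (hσ j i) (crd (p := p) nn j)
  have hTv : ∀ z j, tm (evalPts nn z) (τv j) = T z j := fun z j => by rw [hτv, tm_evalPts_crd]; rfl
  have hSv : ∀ z i, tm (evalPts nn z) (∑ j, σv j i) = Sg z i := fun z i => by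
    rw [map_sum]
    exact Finset.sum_congr rfl fun j _ => by rw [hσv, tm_evalPts_crd]
  let θG : MvPolynomial (Coord nn ⊕ Coord mm) k →ₐ[k] B :=
    MvPolynomial.aeval (Sum.elim (fun a => (v a.1).coeff a.2) fun a => (w a.1).coeff a.2)
  let θP : MvPolynomial (Coord nn ⊕ Coord mm) k →ₐ[k] MvPolynomial (Coord nn) k :=
    MvPolynomial.aeval (Sum.elim (fun a => (τv a.1).coeff a.2) fun a => (∑ j, σv j a.1).coeff a.2)
  have hθsurj : Function.Surjective θG := by
    rw [← AlgHom.range_eq_top, eq_top_iff, ← hgen]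
    refine Algebra.adjoin_le fun b hb => ?_
    obtain ⟨i, j, rfl⟩ := Set.mem_iUnion.mp hb
    exact ⟨MvPolynomial.X (Sum.inr ⟨i, j⟩), by simp [θG]⟩
  have hθ : ∀ a, θG a = 0 → θP a = 0 := fun a ha => by
    refine eq_zero_of_finite_index (prodW p k nn) L (hD.image c) hcov fun z hz => ?_
    obtain ⟨x, hx⟩ := hz
    have hcomp : (evalPts nn z).comp θP = (G.pt x).comp θG := MvPolynomial.algHom_ext fun a => by
      simp only [AlgHom.comp_apply, θP, θG, MvPolynomial.aeval_X]
      cases a with
      | inl a =>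
        rw [Sum.elim_inl, Sum.elim_inl, ← coeff_tm, ← coeff_tm, hTv, ← toPts_apply G v hv]
        exact congrArg (fun q => (q a.1).coeff a.2) (congrArg Prod.fst hx).symm
      | inr a =>
        rw [Sum.elim_inr, Sum.elim_inr, ← coeff_tm, ← coeff_tm, hSv, ← toPts_apply G w hw]
        exact congrArg (fun q => (q a.1).coeff a.2) (congrArg Prod.snd hx).symm
    rw [prodW_pt, ← AlgHom.comp_apply, hcomp, AlgHom.comp_apply, ha, map_zero]
  let g : B →ₐ[k] MvPolynomial (Coord nn) k :=
    (Ideal.Quotient.liftₐ (RingHom.ker θG) θP fun a ha => hθ a (RingHom.mem_ker.mp ha)).comp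
      (Ideal.quotientKerAlgEquivOfSurjective hθsurj).symm.toAlgHom
  have hg : ∀ a, g (θG a) = θP a := fun a => by
    have e : (Ideal.quotientKerAlgEquivOfSurjective hθsurj).symm (θG a) = Ideal.Quotient.mk _ a :=
      (AlgEquiv.symm_apply_eq _).mpr rfl
    simp [g, e]
  let Φf : Pts p k nn → G.P := fun z => G.pt.symm ((evalPts nn z).comp g)
  have hΦv : ∀ z, toPts G v hv (Φf z) = T z := fun z => funext fun j => TruncatedWittVector.ext fun l => by
    rw [toPts_apply, coeff_tm, ← hTv, coeff_tm]
    simp only [Φf, Equiv.apply_symm_apply, AlgHom.comp_apply]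
    rw [show (v j).coeff l = θG (MvPolynomial.X (Sum.inl ⟨j, l⟩)) by simp [θG], hg]
    simp [θP]
  have hΦw : ∀ z, toPts G w hw (Φf z) = Sg z := fun z => funext fun i => TruncatedWittVector.ext fun l => by
    rw [toPts_apply, coeff_tm, ← hSv, coeff_tm]
    simp only [Φf, Equiv.apply_symm_apply, AlgHom.comp_apply]
    rw [show (w i).coeff l = θG (MvPolynomial.X (Sum.inr ⟨i, l⟩)) by simp [θG], hg]
    simp [θP]
  let Φ : Pts p k nn →+ G.P := AddMonoidHom.mk' Φf fun z z' => hWinj (by rw [map_add, hΦw, hΦw, hΦw, map_add])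
  refine ⟨g, Φ, fun z => G.pt.apply_symm_apply _, ?_, ?_⟩
  · refine (Set.Finite.pi fun j => hτf j).subset fun z hz j _ => ?_
    have := congrFun (hΦv z) j
    rw [show Φf z = 0 from hz, map_zero] at this
    exact this.symm
  · have hcovG : ∀ x, ∃ y ∈ {x | toPts G v hv x = 0}, x - y ∈ Φ.range := fun x => by
      choose z hz using fun j => surjective_of_finite_ker (τ j) (hτ j) (hτf j) (toPts G v hv x j)
      refine ⟨x - Φ z, ?_, ⟨z, (sub_sub_cancel x (Φ z)).symm⟩⟩
      change toPts G v hv (x - Φf z) = 0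
      rw [map_sub, hΦv, sub_eq_zero]
      exact funext fun j => (hz j).symm
    have hginj : Function.Injective g := (injective_iff_map_eq_zero _).mpr fun b hb => by
      refine eq_zero_of_finite_index G Φ.range hker hcovG ?_
      rintro _ ⟨z, rfl⟩
      change G.pt (G.pt.symm ((evalPts nn z).comp g)) b = 0
      rw [Equiv.apply_symm_apply, AlgHom.comp_apply, hb, map_zero]
    refine AddMonoidHom.range_eq_top.mp (eq_top_of_dominant G g hginj _ fun ψ => ⟨(evalPts nn).symm ψ, ?_⟩)
    change G.pt.symm ((evalPts nn ((evalPts nn).symm ψ)).comp g) = _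
    rw [Equiv.apply_symm_apply]

end Groth.Agent.H27Isog
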