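import Groth.Agent.H27Witt.Isogeny
import Mathlib

/-!
# Finite-kernel endomorphisms of truncated Witt vectors: Ore condition
-/

set_option autoImplicit false
set_option linter.style.haveILetI false
universe u

noncomputable section

namespace Groth.Agent.H27Isog

open H27Witt Polynomial

/-- additive polynomials -/
def IsAP {k : Type u} [Field k] (P : k[X]) : Prop := ∀ s t, P.eval (s + t) = P.eval s + P.eval t

section poly

variable {p : ℕ} [hp : Fact p.Prime] {k : Type u} [Field k] [hch : CharP k p] {P Q : k[X]}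

theorem IsAP.zero_eval (h : IsAP P) : P.eval 0 = 0 := by
  have := h 0 0
  rw [add_zero] at this
  exact left_eq_add.mp this

theorem IsAP.sub_eval (h : IsAP P) (s t : k) : P.eval (s - t) = P.eval s - P.eval t := by
  rw [eq_sub_iff_add_eq, ← h, sub_add_cancel]

theorem IsAP.comp (hP : IsAP P) (hQ : IsAP Q) : IsAP (P.comp Q) := fun s t => by
  rw [eval_comp, eval_comp, eval_comp, hQ, hP]

theorem IsAP.sub (hP : IsAP P) (hQ : IsAP Q) : IsAP (P - Q) := fun s t => by
  rw [eval_sub, eval_sub, eval_sub, hP, hQ]; ring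

theorem IsAP.add (hP : IsAP P) (hQ : IsAP Q) : IsAP (P + Q) := fun s t => by
  rw [eval_add, eval_add, eval_add, hP, hQ]; ring

theorem isAP_monomial (c : k) (v : ℕ) : IsAP (monomial (p ^ v) c : k[X]) := fun s t => by
  simp only [eval_monomial, add_pow_char_pow, mul_add]

variable (p) [IsAlgClosed k]

include hp hch

theorem IsAP.natDegree_eq (hP : IsAP P) (h0 : P ≠ 0) : ∃ v, P.natDegree = p ^ v :=
  additive_exponent P hP (leadingCoeff_ne_zero.mpr h0)

theorem IsAP.comp_ne_zero (hP : IsAP P) (hQ : IsAP Q) (hP0 : P ≠ 0) (hQ0 : Q ≠ 0) : P.comp Q ≠ 0 := by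
  obtain ⟨v, hv⟩ := IsAP.natDegree_eq p hP hP0
  obtain ⟨w, hw⟩ := IsAP.natDegree_eq p hQ hQ0
  intro h
  have := natDegree_comp (p := P) (q := Q)
  rw [h, natDegree_zero, hv, hw] at this
  exact (mul_ne_zero (pow_ne_zero _ hp.out.ne_zero) (pow_ne_zero _ hp.out.ne_zero)) this.symm

/-- division with remainder -/
theorem exists_div {a b : k[X]} (ha : IsAP a) (hb : IsAP b) (hb0 : b ≠ 0) :
    ∃ q r : k[X], IsAP q ∧ IsAP r ∧ (r = 0 ∨ r.natDegree < b.natDegree) ∧
      ∀ x, a.eval x = b.eval (q.eval x) + r.eval x := by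
  induction hd : a.natDegree using Nat.strong_induction_on generalizing a with
  | _ d ih =>
    subst hd
    by_cases ha0 : a = 0
    · exact ⟨0, 0, fun s t => by simp, fun s t => by simp, Or.inl rfl, fun x => by simp [ha0, hb.zero_eval]⟩
    by_cases hlt : a.natDegree < b.natDegree
    · exact ⟨0, a, fun s t => by simp, ha, Or.inr hlt, fun x => by simp [hb.zero_eval]⟩
    obtain ⟨i, hi⟩ := IsAP.natDegree_eq p ha ha0
    obtain ⟨j, hj⟩ := IsAP.natDegree_eq p hb hb0
    have hji : j ≤ i := (Nat.pow_le_pow_iff_right hp.out.one_lt).mp (by omega)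
    obtain ⟨c, hc⟩ := IsAlgClosed.exists_pow_nat_eq (a.leadingCoeff / b.leadingCoeff) (pow_pos hp.out.pos j)
    let q₀ : k[X] := monomial (p ^ (i - j)) c
    have hc0 : c ≠ 0 := fun h => by
      rw [h, zero_pow (pow_ne_zero _ hp.out.ne_zero), eq_comm, div_eq_zero_iff] at hc
      exact hc.elim (leadingCoeff_ne_zero.mpr ha0) (leadingCoeff_ne_zero.mpr hb0)
    have hq₀d : q₀.natDegree = p ^ (i - j) := natDegree_monomial_eq _ hc0
    have hcd : (b.comp q₀).natDegree = p ^ i := by
      rw [natDegree_comp, hq₀d, hj, ← pow_add, Nat.add_sub_cancel' hji]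
    have hcl : (b.comp q₀).leadingCoeff = a.leadingCoeff := by
      rw [leadingCoeff_comp (by rw [hq₀d]; exact pow_ne_zero _ hp.out.ne_zero), leadingCoeff_monomial, hj, hc,
        mul_div_cancel₀ _ (leadingCoeff_ne_zero.mpr hb0)]
    have hsub : a - b.comp q₀ = 0 ∨ (a - b.comp q₀).natDegree < a.natDegree := by
      by_cases h0 : a - b.comp q₀ = 0
      · exact Or.inl h0
      refine Or.inr (lt_of_le_of_ne ((natDegree_sub_le _ _).trans (by rw [hcd, hi, max_self])) fun he => ?_)
      refine h0 (leadingCoeff_eq_zero.mp ?_)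
      rw [leadingCoeff, he, coeff_sub]
      conv_lhs => arg 2; rw [hi, ← hcd]
      exact sub_eq_zero.mpr hcl.symm
    have hap : IsAP (a - b.comp q₀) := ha.sub (hb.comp (isAP_monomial (p := p) c _))
    obtain h0 | h0 := hsub
    · refine ⟨q₀, 0, isAP_monomial (p := p) c _, fun s t => by simp, Or.inl rfl, fun x => ?_⟩
      rw [sub_eq_zero.mp h0]
      simp
    · obtain ⟨q, r, hq, hr, hr', he⟩ := ih _ h0 hap rfl
      refine ⟨q₀ + q, r, (isAP_monomial (p := p) c _).add hq, hr, hr', fun x => ?_⟩
      have := he x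
      rw [eval_sub, eval_comp] at this
      rw [eval_add, hb]
      linear_combination this

/-- the Ore condition -/
theorem exists_ore_poly {a b : k[X]} (ha : IsAP a) (hb : IsAP b) (hb0 : b ≠ 0) :
    ∃ t s : k[X], IsAP t ∧ t ≠ 0 ∧ IsAP s ∧ ∀ x, a.eval (t.eval x) = b.eval (s.eval x) := by
  induction hd : b.natDegree using Nat.strong_induction_on generalizing a b with
  | _ d ih =>
    subst hd
    obtain ⟨q, r, hq, hr, hdeg, he⟩ := exists_div p ha hb hb0
    by_cases hr0 : r = 0
    · refine ⟨X, q, fun s t => by simp, X_ne_zero, hq, fun x => ?_⟩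
      rw [eval_X, he, hr0, eval_zero, add_zero]
    obtain ⟨t, s, ht, ht0, hs, e⟩ := ih _ (hdeg.resolve_left hr0) hb hr hr0 rfl
    have hs0 : s ≠ 0 := by
      intro h
      refine IsAP.comp_ne_zero p hb ht hb0 ht0 (Polynomial.funext fun x => ?_)
      rw [eval_comp, e, h, eval_zero, hr.zero_eval]
    refine ⟨s, q.comp s + t, hs, hs0, (hq.comp hs).add ht, fun x => ?_⟩
    rw [he, eval_add, eval_comp, hb, e]

/-- an additive polynomial killing a finite set -/
theorem exists_killing_poly (S : Finset k) : ∃ b : k[X], IsAP b ∧ b ≠ 0 ∧ ∀ s ∈ S, b.eval s = 0 := by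
  classical
  induction S using Finset.induction with
  | empty => exact ⟨X, fun s t => by simp, X_ne_zero, fun s hs => absurd hs (Finset.notMem_empty s)⟩
  | insert s S hs ih =>
    obtain ⟨b, hb, hb0, hbS⟩ := ih
    let c := b.eval s
    let q : k[X] := monomial (p ^ 1) 1 - monomial (p ^ 0) (c ^ (p - 1))
    have hq : IsAP q := (isAP_monomial (p := p) 1 1).sub (isAP_monomial (p := p) _ 0)
    have hqc : q.eval c = 0 := by
      simp only [q, eval_sub, eval_monomial, one_mul, pow_one, pow_zero, ← pow_succ,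
        Nat.sub_add_cancel hp.out.one_le, sub_self]
    have hq0 : q ≠ 0 := fun h => by
      have := congrArg (fun P => P.coeff p) h
      simp only [q, coeff_sub, coeff_monomial, pow_one, pow_zero, coeff_zero] at this
      simp [hp.out.one_lt.ne] at this
    refine ⟨q.comp b, hq.comp hb, IsAP.comp_ne_zero p hq hb hq0 hb0, fun x hx => ?_⟩
    rw [eval_comp]
    rcases Finset.mem_insert.mp hx with rfl | hx
    · exact hqc
    · rw [hbS x hx, hq.zero_eval]

end poly

variable {p : ℕ} [hp : Fact p.Prime] {k : Type u} [Field k] [CharP k p] [IsAlgClosed k] [PerfectRing k p] {n m : ℕ}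

omit hp [CharP k p] [IsAlgClosed k] [PerfectRing k p] in
/-- composites with finite kernels -/
theorem finite_ker_comp {X Y Z : Type*} [AddCommGroup X] [AddCommGroup Y] [AddCommGroup Z] (φ : X →+ Y) (ψ : Y →+ Z)
    (hφ : {x | φ x = 0}.Finite) (hψ : {y | ψ y = 0}.Finite) : {x | ψ (φ x) = 0}.Finite := by
  classical
  refine Set.Finite.of_finite_fibers φ (hψ.subset fun y hy => ?_) fun y _ => ?_
  · obtain ⟨x, hx, rfl⟩ := hy
    exact hx
  · rcases Set.eq_empty_or_nonempty ({x | ψ (φ x) = 0} ∩ φ ⁻¹' {y}) with h | ⟨x₀, hx₀⟩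
    · rw [h]; exact Set.finite_empty
    · refine (hφ.image fun z => z + x₀).subset fun x hx => ⟨x - x₀, ?_, sub_add_cancel x x₀⟩
      change φ (x - x₀) = 0
      rw [map_sub, show φ x = y from hx.2, show φ x₀ = y from hx₀.2, sub_self]

/-- a nonzero leading component gives a finite kernel -/
theorem finite_ker_of_leading (φ : TruncatedWittVector p (n + 1) k →+ TruncatedWittVector p (n + 1) k)
    (hφ : IsAlgMap φ) (h : ∃ a, (φ a).coeff 0 ≠ 0) : {x | φ x = 0}.Finite := by
  classical
  obtain ⟨Q, hadd, hQ⟩ := exists_leading φ hφ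
  have hQ0 : Q ≠ 0 := fun h0 => by
    obtain ⟨a, ha⟩ := h
    exact ha (by rw [hQ, h0, eval_zero])
  let pre : ℕ → TruncatedWittVector p (n + 1) k → TruncatedWittVector p (n + 1) k := fun i x =>
    TruncatedWittVector.mk p fun j => if (j : ℕ) < i then x.coeff j else 0
  suffices hi : ∀ i, i ≤ n + 1 → (pre i '' {x | φ x = 0}).Finite by
    refine Set.Finite.subset (hi (n + 1) le_rfl) fun x hx => ⟨x, hx, TruncatedWittVector.ext fun j => ?_⟩
    rw [TruncatedWittVector.coeff_mk, if_pos j.2]
  intro i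
  induction i with
  | zero =>
    refine fun _ => (Set.finite_singleton (pre 0 0)).subset ?_
    rintro _ ⟨x, -, rfl⟩
    exact TruncatedWittVector.ext fun j => by simp [pre, TruncatedWittVector.coeff_mk]
  | succ i ih =>
    intro hi
    let I : Fin (n + 1) := ⟨i, hi⟩
    let rt : TruncatedWittVector p (n + 1) k → Set k := fun y =>
      {t | (Q.map (iterateFrobenius k p i) + Polynomial.C ((φ y).coeff I)).IsRoot t}
    let upd : TruncatedWittVector p (n + 1) k × k → TruncatedWittVector p (n + 1) k := fun yt =>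
      TruncatedWittVector.mk p fun j => if j = I then yt.2 else yt.1.coeff j
    have hrt : ∀ y, (rt y).Finite := fun y => finite_setOfPred_isRoot fun h0 => by
      have h1 := natDegree_ne_zero_of_additive Q hadd hQ0
      rw [← natDegree_map_eq_of_injective (iterateFrobenius k p i).injective Q, ← natDegree_add_C
        (a := (φ y).coeff I), h0, natDegree_zero] at h1
      exact h1 rfl
    refine (((ih (by omega)).biUnion fun y _ => (hrt y).image fun t => upd (y, t))).subset ?_
    rintro _ ⟨x, hx, rfl⟩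
    refine Set.mem_iUnion₂.mpr ⟨pre i x, ⟨x, hx, rfl⟩, x.coeff I, ?_, ?_⟩
    · have h1 := coeff_triangular φ Q (fun _ z => hQ z) I x
      rw [show φ x = 0 from hx, TruncatedWittVector.coeff_zero] at h1
      have hpre : (TruncatedWittVector.mk p fun j => if j < I then x.coeff j else 0) = pre i x := rfl
      rw [hpre] at h1
      change (Q.map (iterateFrobenius k p i) + Polynomial.C ((φ (pre i x)).coeff I)).eval (x.coeff I) = 0
      rw [eval_add, eval_C, add_comm]
      exact h1.symm
    · refine TruncatedWittVector.ext fun j => ?_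
      simp only [upd, pre, TruncatedWittVector.coeff_mk]
      by_cases hj : j = I
      · subst hj
        rw [if_pos rfl, if_pos (show (I : ℕ) < i + 1 from Nat.lt_succ_self i)]
      · rw [if_neg hj]
        have : (j : ℕ) ≠ i := fun h => hj (Fin.ext h)
        exact if_congr (by omega) rfl rfl

omit [IsAlgClosed k] [PerfectRing k p] in
theorem coeff_eq_zero_of_le_pow_nsmul (Y : TruncatedWittVector p m k) (h : p ^ n • Y = 0) (i : Fin m)
    (hi : (i : ℕ) < m - n) : Y.coeff i = 0 := by
  obtain ⟨Z, rfl⟩ := WittVector.truncate_surjective p m k Y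
  have h1 := congrArg (TruncatedWittVector.coeff (⟨i + n, by omega⟩ : Fin m)) h
  rw [← map_nsmul, WittVector.coeff_truncate, TruncatedWittVector.coeff_zero, nsmul_eq_mul, mul_comm, Nat.cast_pow,
    WittVector.mul_pow_charP_coeff_succ] at h1
  rw [WittVector.coeff_truncate]
  exact (pow_eq_zero_iff (pow_ne_zero _ hp.out.ne_zero)).mp h1

/-- homomorphisms with vanishing low components pass through the shift -/
theorem exists_through_shift {r : ℕ} (hr : r ≤ m) (φ : TruncatedWittVector p n k →+ TruncatedWittVector p m k)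
    (hφ : IsAlgMap φ) (h : ∀ x (i : Fin m), (i : ℕ) < m - r → (φ x).coeff i = 0) :
    ∃ ψ : TruncatedWittVector p n k →+ TruncatedWittVector p r k, IsAlgMap ψ ∧ ∀ x, WittGrp.shift p hr (ψ x) = φ x :=
  ⟨AddMonoidHom.mk' (fun x => unshift hr (φ x)) fun a b => shift_injective' hr (by
    rw [map_add (WittGrp.shift p hr), shift_unshift _ _ (h _), shift_unshift _ _ (h _), shift_unshift _ _ (h _),
      map_add]), (isAlgMap_unshift hr).comp hφ, fun x => shift_unshift _ _ (h x)⟩

/-- a finite kernel forces a nonzero leading component -/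
theorem exists_leading_ne_zero (φ : TruncatedWittVector p (n + 1) k →+ TruncatedWittVector p (n + 1) k)
    (hfin : {x | φ x = 0}.Finite) : ∃ a, (φ a).coeff 0 ≠ 0 := by
  by_contra h
  push Not at h
  refine Set.infinite_univ (α := k) (Set.Finite.subset (hfin.preimage
    (f := fun t => p ^ n • WittVector.truncate (n + 1) (WittVector.teichmuller p t)) ?_) fun t _ => ?_)
  · intro t _ t' _ he
    have h1 := congrArg (TruncatedWittVector.coeff (⟨n, Nat.lt_succ_self n⟩ : Fin (n + 1))) he
    have h2 : ∀ u : k, (p ^ n • WittVector.truncate (n + 1) (WittVector.teichmuller p u)).coeff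
        (⟨n, Nat.lt_succ_self n⟩ : Fin (n + 1)) = u ^ p ^ n := fun u => by
      rw [← map_nsmul, WittVector.coeff_truncate, nsmul_eq_mul, mul_comm, Nat.cast_pow]
      simpa using WittVector.mul_pow_charP_coeff_succ (p := p) (WittVector.teichmuller p u) (m := 0) (n := n)
    simp only [h2] at h1
    exact frobenius_inj_iterate h1
  · change φ (p ^ n • _) = 0
    rw [map_nsmul, ← shift_unshift (Nat.le_succ n) (φ _) (fun i hi => ?_), ← map_nsmul,
      pow_nsmul_eq_zero le_rfl, map_zero]
    obtain rfl : i = 0 := Fin.ext (by simp only [Fin.val_zero]; change (i : ℕ) < n + 1 - n at hi; omega)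
    exact h _
where
  frobenius_inj_iterate {a b : k} (h : a ^ p ^ n = b ^ p ^ n) : a = b := iterateFrobenius_inj k p n h

omit [IsAlgClosed k] in
theorem finite_ker_frob (hk : (p : k) = 0) : {x | WittGrp.frob p n (R := k) hk x = 0}.Finite := by
  refine (Set.finite_singleton 0).subset fun x hx => TruncatedWittVector.ext fun i => ?_
  have := congrArg (TruncatedWittVector.coeff i) (show WittGrp.frob p n (R := k) hk x = 0 from hx)
  simp only [WittGrp.coeff_frob, TruncatedWittVector.coeff_zero] at this ⊢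
  exact (pow_eq_zero_iff hp.out.ne_zero).mp this

/-- endomorphisms with prescribed leading component -/
theorem exists_endo (P : k[X]) (hP : IsAP P) (n : ℕ) :
    ∃ φ : TruncatedWittVector p (n + 1) k →+ TruncatedWittVector p (n + 1) k, IsAlgMap φ ∧
      (∀ x, (φ x).coeff 0 = P.eval (x.coeff 0)) ∧ (P ≠ 0 → {x | φ x = 0}.Finite) := by
  obtain ⟨Φ, hΦ, e⟩ := exists_gen_coeff_zero (p := p) P hP
  obtain ⟨φ, hφ, e'⟩ := hΦ.exists_level (n + 1)
  have hc : ∀ x, (φ x).coeff 0 = P.eval (x.coeff 0) := fun x => by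
    obtain ⟨X, rfl⟩ := WittVector.truncate_surjective p _ k x
    rw [← e', WittVector.coeff_truncate, WittVector.coeff_truncate, Fin.val_zero, e]
  refine ⟨φ, hφ, hc, fun h0 => finite_ker_of_leading φ hφ ?_⟩
  by_contra hz
  push Not at hz
  refine h0 (Polynomial.funext fun t => ?_)
  have := hz (WittVector.truncate (n + 1) (WittVector.teichmuller p t))
  rw [hc, WittVector.coeff_truncate, Fin.val_zero, WittVector.teichmuller_coeff_zero] at this
  rw [this, eval_zero]

/-- the leading component of a homomorphism to a shorter length -/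
theorem exists_leading' (hmn : m ≤ n) (φ : TruncatedWittVector p (n + 1) k →+ TruncatedWittVector p (m + 1) k)
    (hφ : IsAlgMap φ) : ∃ Q : k[X], IsAP Q ∧ ∀ x, (φ x).coeff 0 = Q.eval (x.coeff 0) := by
  obtain ⟨ψ, hψ, e⟩ := exists_factor_truncate (Nat.succ_le_succ hmn) φ fun z => pow_nsmul_eq_zero le_rfl _
  obtain ⟨Q, hadd, hQ⟩ := exists_leading ψ (by
    rw [show (ψ : TruncatedWittVector p (m + 1) k → _) = fun y => φ (padEnd y) from funext hψ]
    exact hφ.comp isAlgMap_padEnd)
  exact ⟨Q, hadd, fun x => by rw [← e, hQ, TruncatedWittVector.coeff_truncate]; rfl⟩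

theorem finite_ker_of_shift {r : ℕ} (hr : r ≤ m) (β : TruncatedWittVector p m k →+ TruncatedWittVector p m k)
    (hβ : {x | β x = 0}.Finite) (β' : TruncatedWittVector p r k →+ TruncatedWittVector p r k)
    (e : ∀ y, WittGrp.shift p hr (β' y) = β (WittGrp.shift p hr y)) : {y | β' y = 0}.Finite := by
  refine (hβ.preimage (f := fun y => WittGrp.shift p hr y) (shift_injective' hr).injOn).subset fun y hy => ?_
  change β _ = 0
  rw [← e, show β' y = 0 from hy, map_zero]

/-- the Ore condition in endomorphisms of Witt groups -/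
theorem exists_ore : ∀ (m n : ℕ) (α : TruncatedWittVector p n k →+ TruncatedWittVector p m k),
    IsAlgMap α → ∀ (β : TruncatedWittVector p m k →+ TruncatedWittVector p m k), IsAlgMap β →
    {x | β x = 0}.Finite →
    ∃ (τ : TruncatedWittVector p n k →+ TruncatedWittVector p n k)
      (σ : TruncatedWittVector p n k →+ TruncatedWittVector p m k),
      IsAlgMap τ ∧ {x | τ x = 0}.Finite ∧ IsAlgMap σ ∧ ∀ x, α (τ x) = β (σ x) := by
  intro m
  induction m using Nat.strong_induction_on with
  | _ m ih =>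
    intro n α hα β hβ hfin
    have hid : IsAlgMap (AddMonoidHom.id (TruncatedWittVector p n k)) := by
      show IsAlgMap fun a : TruncatedWittVector p n k => a
      simpa using isAlgMap_mul (p := p) (k := k) (1 : TruncatedWittVector p n k)
    have hidfin : {x : TruncatedWittVector p n k | AddMonoidHom.id _ x = 0}.Finite :=
      (Set.finite_singleton 0).subset fun x hx => hx
    by_cases hnm : n < m
    · obtain ⟨α', hα', eα⟩ := exists_through_shift hnm.le α hα fun x i hi =>
        coeff_eq_zero_of_le_pow_nsmul _ (by rw [← map_nsmul, pow_nsmul_eq_zero le_rfl, map_zero]) i hi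
      obtain ⟨β', hβ', eβ⟩ := exists_through_shift hnm.le (β.comp (WittGrp.shift p hnm.le))
        (hβ.comp (isAlgMap_shift _)) fun x i hi =>
        coeff_eq_zero_of_le_pow_nsmul _ (by rw [← map_nsmul, pow_nsmul_eq_zero le_rfl, map_zero]) i hi
      obtain ⟨τ, σ, hτ, hτf, hσ, e⟩ := ih n hnm n α' hα' β' hβ' (finite_ker_of_shift _ β hfin β' eβ)
      refine ⟨τ, (WittGrp.shift p hnm.le).comp σ, hτ, hτf, (isAlgMap_shift hnm.le).comp hσ, fun x => ?_⟩
      rw [← eα, e, eβ]
      rfl
    rw [not_lt] at hnm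
    cases m with
    | zero => exact ⟨AddMonoidHom.id _, 0, hid, hidfin, isAlgMap_const 0, fun x => TruncatedWittVector.ext fun i => i.elim0⟩
    | succ m =>
      cases n with
      | zero => omega
      | succ n =>
        obtain ⟨a, ha, ea⟩ := exists_leading' (Nat.le_of_succ_le_succ hnm) α hα
        obtain ⟨b, hb, eb⟩ := exists_leading' le_rfl β hβ
        have hb0 : b ≠ 0 := fun h => by
          obtain ⟨x, hx⟩ := exists_leading_ne_zero β hfin
          exact hx (by rw [eb, h, eval_zero])
        obtain ⟨t, s, ht, ht0, hs, hts⟩ := exists_ore_poly p ha hb hb0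
        obtain ⟨τ₁, hτ₁, eτ₁, hτ₁f⟩ := exists_endo (p := p) t ht n
        obtain ⟨σ₁, hσ₁, eσ₁, -⟩ := exists_endo (p := p) s hs m
        let σ' := σ₁.comp (TruncatedWittVector.truncate hnm : TruncatedWittVector p (n + 1) k →+* _).toAddMonoidHom
        have hσ' : IsAlgMap σ' := hσ₁.comp (isAlgMap_truncate hnm)
        obtain ⟨α₃, hα₃, eα₃⟩ := exists_through_shift (Nat.le_succ m) (α.comp τ₁ - β.comp σ')
          ((hα.comp hτ₁).sub (hβ.comp hσ')) fun x i hi => by
            obtain rfl : i = 0 := Fin.ext (by simp only [Fin.val_zero]; change (i : ℕ) < m + 1 - m at hi; omega)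
            change (α (τ₁ x) - β (σ₁ (TruncatedWittVector.truncate hnm x))).coeff 0 = 0
            rw [coeff_zero_sub, ea, eb, eτ₁, eσ₁, TruncatedWittVector.coeff_truncate,
              show Fin.castLE hnm 0 = 0 from rfl, hts, sub_self]
        obtain ⟨β', hβ', eβ⟩ := exists_through_shift (Nat.le_succ m) (β.comp (WittGrp.shift p (Nat.le_succ m)))
          (hβ.comp (isAlgMap_shift _)) fun x i hi => by
            obtain rfl : i = 0 := Fin.ext (by simp only [Fin.val_zero]; change (i : ℕ) < m + 1 - m at hi; omega)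
            change (β (WittGrp.shift p (Nat.le_succ m) x)).coeff 0 = 0
            rw [eb, WittGrp.coeff_shift, dif_neg (by simp), hb.zero_eval]
        obtain ⟨τ₂, σ₃, hτ₂, hτ₂f, hσ₃, e⟩ :=
          ih m (Nat.lt_succ_self m) (n + 1) α₃ hα₃ β' hβ' (finite_ker_of_shift _ β hfin β' eβ)
        refine ⟨τ₁.comp τ₂, σ'.comp τ₂ + (WittGrp.shift p (Nat.le_succ m)).comp σ₃, hτ₁.comp hτ₂,
          finite_ker_comp τ₂ τ₁ hτ₂f (hτ₁f ht0), (hσ'.comp hτ₂).add ((isAlgMap_shift (Nat.le_succ m)).comp hσ₃), fun x => ?_⟩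
        have h1 : WittGrp.shift p (Nat.le_succ m) (α₃ (τ₂ x)) = α (τ₁ (τ₂ x)) - β (σ' (τ₂ x)) := eα₃ _
        rw [e, eβ] at h1
        change α (τ₁ (τ₂ x)) = β (σ' (τ₂ x) + WittGrp.shift p (Nat.le_succ m) (σ₃ x))
        rw [map_add, show β (WittGrp.shift p (Nat.le_succ m) (σ₃ x)) = α (τ₁ (τ₂ x)) - β (σ' (τ₂ x)) from h1]
        abel

/-- a finite set is killed by an endomorphism with finite kernel -/
theorem exists_killing : ∀ (m : ℕ) (S : Finset (TruncatedWittVector p m k)),
    ∃ β : TruncatedWittVector p m k →+ TruncatedWittVector p m k, IsAlgMap β ∧ {x | β x = 0}.Finite ∧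
      ∀ s ∈ S, β s = 0
  | 0, S => ⟨0, isAlgMap_const 0, Set.Subsingleton.finite fun a _ b _ => TruncatedWittVector.ext fun i => i.elim0, fun s _ => rfl⟩
  | m + 1, S => by
    classical
    obtain ⟨b, hb, hb0, hbS⟩ := exists_killing_poly p (S.image fun s => s.coeff 0)
    obtain ⟨β₁, hβ₁, eβ₁, hβ₁f⟩ := exists_endo (p := p) b hb m
    obtain ⟨β', hβ', hβ'f, hT⟩ := exists_killing m (S.image fun s => unshift (Nat.le_succ m) (β₁ s))
    obtain ⟨Φ, hΦ, eΦ⟩ := exists_gen β' hβ'
    obtain ⟨Φ', hΦ', eΦ'⟩ := hΦ.exists_comm_ver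
    obtain ⟨β₂, hβ₂, eβ₂⟩ := hΦ'.exists_level (m + 1)
    have hsh : ∀ y, β₂ (WittGrp.shift p (Nat.le_succ m) y) = WittGrp.shift p (Nat.le_succ m) (β' y) := by
      intro y
      obtain ⟨Y, rfl⟩ := WittVector.truncate_surjective p m k y
      have hv : ∀ Z : WittVector p k, WittGrp.shift p (Nat.le_succ m) (WittVector.truncate m Z) =
          WittVector.truncate (m + 1) (WittVector.verschiebung Z) := fun Z => by
        rw [WittGrp.shift_truncate, show m.succ - m = 1 by omega, Function.iterate_one]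
      rw [← eΦ, hv, hv, ← eβ₂, eΦ']
    have hlow : ∀ s ∈ S, ∀ i : Fin (m + 1), (i : ℕ) < m + 1 - m → (β₁ s).coeff i = 0 := fun s hs i hi => by
      obtain rfl : i = 0 := Fin.ext (by simp only [Fin.val_zero]; omega)
      rw [eβ₁, hbS _ (Finset.mem_image_of_mem _ hs)]
    rcases Nat.eq_zero_or_pos m with rfl | hm
    · refine ⟨β₁, hβ₁, hβ₁f hb0, fun s hs => TruncatedWittVector.ext fun i => ?_⟩
      rw [TruncatedWittVector.coeff_zero]
      exact hlow s hs i (by omega)
    refine ⟨β₂.comp β₁, hβ₂.comp hβ₁, finite_ker_comp β₁ β₂ (hβ₁f hb0) ?_, fun s hs => ?_⟩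
    · refine finite_ker_of_leading β₂ hβ₂ ?_
      by_contra h
      push Not at h
      -- multiples of `p` are shifts, on which `β₂` is `β'`
      obtain ⟨m', rfl⟩ : ∃ m', m = m' + 1 := ⟨m - 1, by omega⟩
      obtain ⟨a, ha⟩ := exists_leading_ne_zero β' hβ'f
      obtain ⟨b', hb', eb'⟩ := exists_leading' le_rfl β' hβ'
      obtain ⟨b₂, hb₂, eb₂⟩ := exists_leading' le_rfl β₂ hβ₂
      obtain ⟨A, rfl⟩ := WittVector.truncate_surjective p (m' + 1) k a
      obtain ⟨t, ht⟩ := IsAlgClosed.exists_pow_nat_eq (A.coeff 0) hp.out.pos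
      let x : TruncatedWittVector p (m' + 1 + 1) k := WittVector.truncate _ (WittVector.teichmuller p t)
      have hpx : p • x = WittGrp.shift p (Nat.le_succ (m' + 1))
          (WittVector.truncate (m' + 1) (WittVector.teichmuller p (t ^ p))) := by
        rw [WittGrp.shift_truncate, show (m' + 1).succ - (m' + 1) = 1 by omega, Function.iterate_one, ← map_nsmul,
          nsmul_eq_mul, mul_comm, ← WittVector.verschiebung_frobenius, WittVector.frobenius_eq_map_frobenius, WittVector.map_teichmuller, frobenius_def]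
      have h2 : (p • β₂ x).coeff ⟨1, by omega⟩ = 0 := by
        have := coeff_nsmul_prime_succ (β₂ x) (0 : Fin (m' + 1 + 1)) (by simp)
        rw [h x, zero_pow hp.out.ne_zero] at this
        exact this
      rw [← map_nsmul, hpx, hsh, WittGrp.coeff_shift, dif_pos (by simp)] at h2
      refine ha ?_
      rw [eb', WittVector.coeff_truncate, Fin.val_zero]
      have h3 : (β' (WittVector.truncate (m' + 1) (WittVector.teichmuller p (t ^ p)))).coeff 0 = 0 := by
        rw [← h2]
        exact congrArg (fun j : Fin (m' + 1) => TruncatedWittVector.coeff j _) (Fin.ext (by simp))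
      rw [eb', WittVector.coeff_truncate, Fin.val_zero, WittVector.teichmuller_coeff_zero, ht] at h3
      exact h3
    · change β₂ (β₁ s) = 0
      rw [← shift_unshift (Nat.le_succ m) (β₁ s) (hlow s hs), hsh, hT _ (Finset.mem_image_of_mem _ hs), map_zero]

/-- simultaneous Ore condition -/
theorem exists_ore_family {ι : Type*} [Finite ι] (mm : ι → ℕ)
    (α : ∀ i, TruncatedWittVector p n k →+ TruncatedWittVector p (mm i) k) (hα : ∀ i, IsAlgMap (α i))
    (β : ∀ i, TruncatedWittVector p (mm i) k →+ TruncatedWittVector p (mm i) k) (hβ : ∀ i, IsAlgMap (β i))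
    (hfin : ∀ i, {x | β i x = 0}.Finite) :
    ∃ (τ : TruncatedWittVector p n k →+ TruncatedWittVector p n k)
      (σ : ∀ i, TruncatedWittVector p n k →+ TruncatedWittVector p (mm i) k),
      IsAlgMap τ ∧ {x | τ x = 0}.Finite ∧ (∀ i, IsAlgMap (σ i)) ∧ ∀ i x, α i (τ x) = β i (σ i x) := by
  classical
  haveI := Fintype.ofFinite ι
  suffices h : ∀ s : Finset ι, ∃ (τ : TruncatedWittVector p n k →+ TruncatedWittVector p n k)
      (σ : ∀ i, TruncatedWittVector p n k →+ TruncatedWittVector p (mm i) k),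
      IsAlgMap τ ∧ {x | τ x = 0}.Finite ∧ (∀ i, IsAlgMap (σ i)) ∧ ∀ i ∈ s, ∀ x, α i (τ x) = β i (σ i x) by
    obtain ⟨τ, σ, h1, h2, h3, h4⟩ := h Finset.univ
    exact ⟨τ, σ, h1, h2, h3, fun i => h4 i (Finset.mem_univ i)⟩
  intro s
  induction s using Finset.induction with
  | empty =>
    refine ⟨AddMonoidHom.id _, fun i => 0, ?_, (Set.finite_singleton 0).subset fun x hx => hx, fun i => isAlgMap_const 0,
      fun i hi => absurd hi (Finset.notMem_empty i)⟩
    show IsAlgMap fun a : TruncatedWittVector p n k => a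
    simpa using isAlgMap_mul (p := p) (k := k) (1 : TruncatedWittVector p n k)
  | insert i₀ s hi₀ ih =>
    obtain ⟨τ, σ, hτ, hτf, hσ, e⟩ := ih
    obtain ⟨τ', σ', hτ', hτ'f, hσ', e'⟩ :=
      exists_ore (mm i₀) n ((α i₀).comp τ) ((hα i₀).comp hτ) (β i₀) (hβ i₀) (hfin i₀)
    refine ⟨τ.comp τ', Function.update (fun i => (σ i).comp τ') i₀ σ', hτ.comp hτ', finite_ker_comp τ' τ hτ'f hτf,
      fun i => ?_, fun i hi x => ?_⟩
    · by_cases h : i = i₀
      · subst h; rw [Function.update_self]; exact hσ'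
      · rw [Function.update_of_ne h]; exact (hσ i).comp hτ'
    · by_cases h : i = i₀
      · subst h; rw [Function.update_self]; exact e' x
      · rw [Function.update_of_ne h]
        exact e i (Finset.mem_of_mem_insert_of_ne hi h) (τ' x)

end Groth.Agent.H27Isog
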