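import Groth.Agent.H05EGA4.GenericImage
import Mathlib

/-!
# Dominant maps of varieties through their rational points

Lifting of rational points over an open, functions constant on fibres of a map onto affine space.
-/

set_option autoImplicit false
set_option linter.style.haveILetI false
universe u

open Polynomial

noncomputable section

namespace Groth.Agent.H27Isog

variable {k : Type u} [Field k] [IsAlgClosed k]

/-- rational points lift over a dense open of a dominant map -/
theorem exists_lift {A C : Type u} [CommRing A] [IsDomain A] [CommRing C] [IsDomain C] [Algebra k A] [Algebra k C]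
    [Algebra.FiniteType k C] (φ : A →ₐ[k] C) (hφ : Function.Injective φ) :
    ∃ s : A, s ≠ 0 ∧ ∀ χ : A →ₐ[k] k, χ s ≠ 0 → ∃ ψ : C →ₐ[k] k, ψ.comp φ = χ := by
  letI : Algebra A C := φ.toRingHom.toAlgebra
  haveI : IsScalarTower k A C := IsScalarTower.of_algebraMap_eq fun c => (φ.commutes c).symm
  haveI : Algebra.FiniteType A C := Algebra.FiniteType.of_restrictScalars_finiteType k A C
  obtain ⟨s, hs, hsub⟩ := H05EGA4.GenericImage.exists_basicOpen_subset_range (A := A) (B := C) hφ
  refine ⟨s, hs, fun χ hχ => ?_⟩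
  obtain ⟨q, hq⟩ := hsub ⟨RingHom.ker χ, RingHom.ker_isPrime _⟩ hχ
  obtain ⟨m, hm, hqm⟩ := q.asIdeal.exists_le_maximal q.2.ne_top
  haveI := hm
  letI : Field (C ⧸ m) := Ideal.Quotient.field m
  haveI : Algebra.FiniteType k (C ⧸ m) :=
    Algebra.FiniteType.of_surjective (Ideal.Quotient.mkₐ k m) Ideal.Quotient.mk_surjective
  haveI : Module.Finite k (C ⧸ m) := finite_of_finite_type_of_isJacobsonRing k _
  let ψ : C →ₐ[k] k := (IsAlgClosed.lift : C ⧸ m →ₐ[k] k).comp (Ideal.Quotient.mkₐ k m)
  refine ⟨ψ, AlgHom.ext fun a => ?_⟩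
  have hb : a - algebraMap k A (χ a) ∈ RingHom.ker χ := by
    rw [RingHom.mem_ker, map_sub, AlgHom.commutes, Algebra.algebraMap_self, RingHom.id_apply, sub_self]
  have hb' : φ (a - algebraMap k A (χ a)) ∈ q.asIdeal := by
    have := congrArg PrimeSpectrum.asIdeal hq
    rw [PrimeSpectrum.comap_asIdeal] at this
    exact (Ideal.mem_comap).mp (this.symm ▸ hb)
  have h0 : ψ (φ (a - algebraMap k A (χ a))) = 0 := by
    simp only [ψ, AlgHom.comp_apply, Ideal.Quotient.mkₐ_eq_mk, Ideal.Quotient.eq_zero_iff_mem.mpr (hqm hb'),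
      map_zero]
  rw [map_sub, map_sub, AlgHom.commutes, AlgHom.commutes, sub_eq_zero] at h0
  simpa using h0

variable {σ : Type}

theorem exists_point_ne_zero {c : MvPolynomial σ k} (hc : c ≠ 0) :
    ∃ χ : MvPolynomial σ k →ₐ[k] k, χ c ≠ 0 := by
  by_contra h
  push Not at h
  exact hc (MvPolynomial.funext fun x => by
    have := h (MvPolynomial.aeval x)
    rw [MvPolynomial.aeval_eq_eval] at this
    simpa using this)

/-- a function with finitely many values on each fibre satisfies an equation -/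
theorem exists_annihilator {B : Type u} [CommRing B] [IsDomain B] [Algebra k B] [Algebra.FiniteType k B]
    (φ : MvPolynomial σ k →ₐ[k] B) (a : B)
    (hfib : ∀ χ : MvPolynomial σ k →ₐ[k] k, {t : k | ∃ ψ : B →ₐ[k] k, ψ.comp φ = χ ∧ ψ a = t}.Finite) :
    ∃ g : (MvPolynomial σ k)[X], g ≠ 0 ∧ eval₂AlgHom φ a (fun _ => Commute.all _ _) g = 0 := by
  let Ψ := eval₂AlgHom φ a (fun _ => Commute.all _ _)
  by_contra h
  push Not at h
  have hinj : Function.Injective Ψ := (injective_iff_map_eq_zero _).mpr fun g hg => by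
    by_contra hg0
    exact h g hg0 hg
  obtain ⟨s, hs, hlift⟩ := exists_lift Ψ hinj
  obtain ⟨χ, hχ⟩ := exists_point_ne_zero (Polynomial.leadingCoeff_ne_zero.mpr hs)
  have hsχ : s.map χ.toRingHom ≠ 0 := fun h0 => hχ (by
    have := congrArg (fun q => q.coeff s.natDegree) h0
    simpa using this)
  refine Set.infinite_univ (α := k) (Set.Finite.subset ((hfib χ).union (finite_setOfPred_isRoot hsχ)) fun t _ => ?_)
  by_cases ht : (s.map χ.toRingHom).eval t = 0
  · exact Or.inr ht
  · refine Or.inl ?_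
    obtain ⟨ψ, hψ⟩ := hlift (eval₂AlgHom χ t fun _ => Commute.all _ _) (by
      rw [eval_map] at ht
      exact ht)
    refine ⟨ψ, AlgHom.ext fun c => ?_, ?_⟩
    · have := AlgHom.congr_fun hψ (C c)
      simpa [Ψ] using this
    · have := AlgHom.congr_fun hψ X
      simpa [Ψ] using this

variable {p : ℕ} [hp : Fact p.Prime] [CharP k p]

theorem exists_expand_derivative_ne_zero {R : Type u} [CommRing R] [IsDomain R] [CharP R p] :
    ∀ (Q : R[X]), Irreducible Q → Q.natDegree ≠ 0 →
      ∃ (e : ℕ) (R' : R[X]), expand R (p ^ e) R' = Q ∧ Irreducible R' ∧ R'.natDegree ≠ 0 ∧ derivative R' ≠ 0 := by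
  intro Q
  induction hd : Q.natDegree using Nat.strong_induction_on generalizing Q with
  | _ d ih =>
    intro hQ hdeg
    by_cases h : derivative Q = 0
    · have he : expand R p (contract p Q) = Q := expand_contract p h hp.out.ne_zero
      have hdeg' : (contract p Q).natDegree * p = d := by rw [← natDegree_expand, he, hd]
      have hlt : (contract p Q).natDegree < d := by
        rw [← hdeg']
        exact lt_mul_of_one_lt_right (Nat.pos_of_ne_zero fun h0 => hdeg (by rw [← hdeg', h0, zero_mul])) hp.out.one_lt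
      have hirr : Irreducible (contract p Q) := of_irreducible_expand hp.out.ne_zero (he.symm ▸ hQ)
      obtain ⟨e, R', h1, h2, h3, h4⟩ := ih _ hlt _ rfl hirr fun h0 => hdeg (by rw [← hdeg', h0, zero_mul])
      refine ⟨e + 1, R', ?_, h2, h3, h4⟩
      rw [pow_succ', ← expand_expand, h1, he]
    · exact ⟨0, Q, by rw [pow_zero, expand_one], hQ, hd.symm ▸ hdeg, h⟩

theorem exists_bezout {R : Type u} [CommRing R] [IsDomain R] [UniqueFactorizationMonoid R] {Q g : R[X]}
    (hQ : Irreducible Q) (hdeg : Q.natDegree ≠ 0) (hg : ¬ Q ∣ g) :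
    ∃ (u v : R[X]) (c : R), c ≠ 0 ∧ u * Q + v * g = Polynomial.C c := by
  classical
  let K := FractionRing R
  have hinj : Function.Injective (algebraMap R K) := IsFractionRing.injective R K
  have hQK : Irreducible (Q.map (algebraMap R K)) :=
    (Irreducible.isPrimitive hQ hdeg).irreducible_iff_irreducible_map_fraction_map.mp hQ
  have hcop : IsCoprime (Q.map (algebraMap R K)) (g.map (algebraMap R K)) := by
    refine (hQK.coprime_iff_not_dvd).mpr fun hdvd => hg ?_
    obtain ⟨h, hh⟩ := hdvd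
    obtain ⟨b, hb⟩ := IsLocalization.integerNormalization_map_to_map (nonZeroDivisors R) (S := K) h
    have hmul : Polynomial.C (b : R) * g = Q * IsLocalization.integerNormalization (nonZeroDivisors R) h := by
      refine map_injective _ hinj ?_
      rw [Polynomial.map_mul, Polynomial.map_mul, map_C, hb, hh, Algebra.smul_def]
      change _ = _ * (Polynomial.C (algebraMap R K b) * h)
      ring
    rcases (UniqueFactorizationMonoid.irreducible_iff_prime.mp hQ).2.2 _ _ (Dvd.intro _ hmul.symm) with h' | h'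
    · refine absurd (natDegree_le_of_dvd h' ?_) ?_
      · rw [Ne, C_eq_zero]; exact nonZeroDivisors.ne_zero b.2
      · rw [natDegree_C]; omega
    · exact h'
  obtain ⟨u, v, huv⟩ := hcop
  obtain ⟨a, ha⟩ := IsLocalization.integerNormalization_map_to_map (nonZeroDivisors R) (S := K) u
  obtain ⟨b, hb⟩ := IsLocalization.integerNormalization_map_to_map (nonZeroDivisors R) (S := K) v
  refine ⟨Polynomial.C (b : R) * IsLocalization.integerNormalization (nonZeroDivisors R) u,
    Polynomial.C (a : R) * IsLocalization.integerNormalization (nonZeroDivisors R) v, (a : R) * b,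
    mul_ne_zero (nonZeroDivisors.ne_zero a.2) (nonZeroDivisors.ne_zero b.2), map_injective _ hinj ?_⟩
  simp only [Polynomial.map_add, Polynomial.map_mul, map_C, ha, hb, map_mul, Algebra.smul_def]
  have e : ∀ c : R, algebraMap R K[X] c = Polynomial.C (algebraMap R K c) := fun c => rfl
  simp only [e]
  linear_combination (Polynomial.C (algebraMap R K a) * Polynomial.C (algebraMap R K b)) * huv

/-- functions constant on the fibres of a map onto affine space have `p`-power roots of polynomials -/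
theorem exists_factor [Finite σ] {B : Type u} [CommRing B] [IsDomain B] [Algebra k B] [Algebra.FiniteType k B]
    (φ : MvPolynomial σ k →ₐ[k] B) (hsurj : ∀ χ : MvPolynomial σ k →ₐ[k] k, ∃ ψ : B →ₐ[k] k, ψ.comp φ = χ)
    (a : B) (hconst : ∀ ψ ψ' : B →ₐ[k] k, ψ.comp φ = ψ'.comp φ → ψ a = ψ' a) :
    ∃ (e : ℕ) (Q : MvPolynomial σ k), ∀ ψ : B →ₐ[k] k, ψ a ^ p ^ e = ψ (φ Q) := by
  classical
  let A := MvPolynomial σ k
  let Ψ : A[X] →ₐ[k] B := eval₂AlgHom φ a (fun _ => Commute.all _ _)
  obtain ⟨g, hg0, hg⟩ := exists_annihilator φ a fun χ => Set.Subsingleton.finite fun t ht t' ht' => by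
    obtain ⟨ψ, h1, rfl⟩ := ht
    obtain ⟨ψ', h2, rfl⟩ := ht'
    exact hconst ψ ψ' (h1.trans h2.symm)
  have hφinj : Function.Injective φ := (injective_iff_map_eq_zero _).mpr fun c hc => by
    by_contra hc0
    obtain ⟨χ, hχ⟩ := exists_point_ne_zero hc0
    obtain ⟨ψ, rfl⟩ := hsurj χ
    exact hχ (by rw [AlgHom.comp_apply, hc, map_zero])
  let P : Ideal A[X] := RingHom.ker Ψ
  haveI hP : P.IsPrime := RingHom.ker_isPrime _
  have hPC : ∀ c : A, Polynomial.C c ∈ P → c = 0 := fun c hc => hφinj (by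
    rw [map_zero]
    simpa [P, Ψ] using (RingHom.mem_ker).mp hc)
  obtain ⟨f, hf, hfP⟩ : ∃ f, Irreducible f ∧ f ∈ P := by
    obtain ⟨q, hq, hq'⟩ := Ideal.IsPrime.exists_mem_prime_of_ne_bot hP (fun h => hg0 (by
      have : g ∈ P := hg
      rwa [h, Ideal.mem_bot] at this))
    exact ⟨q, hq'.irreducible, hq⟩
  have hfdeg : f.natDegree ≠ 0 := fun h => by
    obtain ⟨c, rfl⟩ := natDegree_eq_zero.mp h
    exact hf.ne_zero (by rw [hPC c hfP, map_zero])
  have hPf : ∀ g ∈ P, f ∣ g := fun g hgP => by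
    by_contra hdvd
    obtain ⟨u, v, c, hc, huv⟩ := exists_bezout hf hfdeg hdvd
    exact hc (hPC c (huv ▸ P.add_mem (P.mul_mem_left u hfP) (P.mul_mem_left v hgP)))
  haveI : IsDomain (A[X] ⧸ P) := Ideal.Quotient.isDomain P
  obtain ⟨s, hs, hlift⟩ := exists_lift (A := A[X] ⧸ P) (Ideal.kerLiftAlg Ψ) (Ideal.kerLiftAlg_injective Ψ)
  obtain ⟨s, rfl⟩ := Ideal.Quotient.mk_surjective s
  have hsP : ¬ f ∣ s := fun h => hs (Ideal.Quotient.eq_zero_iff_mem.mpr (P.mem_of_dvd h hfP))
  obtain ⟨u₀, v₀, c₀, hc₀, he₀⟩ := exists_bezout hf hfdeg hsP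
  obtain ⟨e, R, hR, hRirr, hRdeg, hR'⟩ := exists_expand_derivative_ne_zero (p := p) f hf hfdeg
  have hR'dvd : ¬ R ∣ derivative R := fun h => by
    have := natDegree_le_of_dvd h hR'
    have := natDegree_derivative_lt hRdeg
    omega
  obtain ⟨u₁, v₁, c₁, hc₁, he₁⟩ := exists_bezout hRirr hRdeg hR'dvd
  obtain ⟨χ, hχ⟩ := exists_point_ne_zero (mul_ne_zero (mul_ne_zero hc₀ hc₁)
    (leadingCoeff_ne_zero.mpr hRirr.ne_zero))
  rw [map_mul, map_mul, mul_ne_zero_iff, mul_ne_zero_iff] at hχ
  obtain ⟨⟨hχ₀, hχ₁⟩, hχl⟩ := hχ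
  -- every root of the specialisation is the value of `a ^ p ^ e`
  have hroot : ∀ r : k, (R.map χ.toRingHom).eval r = 0 → ∃ ψ : B →ₐ[k] k, ψ.comp φ = χ ∧ ψ a ^ p ^ e = r := by
    intro r hr
    obtain ⟨t, rfl⟩ := IsAlgClosed.exists_pow_nat_eq r (pow_pos hp.out.pos e)
    let χt : A[X] →ₐ[k] k := eval₂AlgHom χ t (fun _ => Commute.all _ _)
    have hev : ∀ q : A[X], χt q = (q.map χ.toRingHom).eval t := fun q => (eval_map _ _).symm
    have hf0 : χt f = 0 := by
      rw [hev, ← hR, map_expand, expand_eval, hr]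
    have hker : ∀ q ∈ P, χt q = 0 := fun q hq => by
      obtain ⟨q', rfl⟩ := hPf q hq
      rw [map_mul, hf0, zero_mul]
    obtain ⟨ψ, hψ⟩ := hlift (Ideal.Quotient.liftₐ P χt hker) (by
      rw [Ideal.Quotient.liftₐ_apply, Ideal.Quotient.lift_mk]
      intro hst
      have := congrArg χt he₀
      rw [map_add, map_mul, map_mul, hf0, show χt s = 0 from hst, mul_zero, mul_zero, add_zero] at this
      exact hχ₀ (by simpa [χt] using this.symm))
    refine ⟨ψ, AlgHom.ext fun c => ?_, ?_⟩
    · have := AlgHom.congr_fun hψ (Ideal.Quotient.mk P (Polynomial.C c))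
      simpa [χt, Ψ, P] using this
    · have := AlgHom.congr_fun hψ (Ideal.Quotient.mk P X)
      simp [χt, Ψ, P] at this
      rw [this]
  -- so it has degree one
  have hRdeg1 : R.natDegree = 1 := by
    have hd : (R.map χ.toRingHom).natDegree = R.natDegree := natDegree_map_of_leadingCoeff_ne_zero _ hχl
    obtain ⟨r, hr⟩ := IsAlgClosed.exists_root (R.map χ.toRingHom) (by
      intro h
      have := natDegree_eq_zero_iff_degree_le_zero.mpr h.le
      omega)
    have hsep : (R.map χ.toRingHom).Separable := by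
      have h' := congrArg (Polynomial.map χ.toRingHom) he₁
      rw [Polynomial.map_add, Polynomial.map_mul, Polynomial.map_mul, map_C, ← derivative_map] at h'
      refine ⟨Polynomial.C (χ c₁)⁻¹ * u₁.map χ.toRingHom, Polynomial.C (χ c₁)⁻¹ * v₁.map χ.toRingHom, ?_⟩
      rw [mul_assoc, mul_assoc, ← mul_add, h', ← map_mul]
      simp [inv_mul_cancel₀ hχ₁]
    have hsub : ∀ r' ∈ (R.map χ.toRingHom).roots, r' = r := by
      intro r' hr'
      obtain ⟨ψ, h1, rfl⟩ := hroot r' (isRoot_of_mem_roots hr')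
      obtain ⟨ψ', h2, rfl⟩ := hroot r hr
      rw [hconst ψ ψ' (h1.trans h2.symm)]
    have hcard := IsAlgClosed.card_roots_eq_natDegree (p := R.map χ.toRingHom)
    have : (R.map χ.toRingHom).roots.card ≤ 1 := by
      rw [← Multiset.toFinset_card_of_nodup (nodup_roots hsep)]
      exact Finset.card_le_one.mpr fun x hx y hy => by
        rw [hsub x (Multiset.mem_toFinset.mp hx), hsub y (Multiset.mem_toFinset.mp hy)]
    omega
  obtain ⟨v, w, hvw⟩ := exists_eq_X_add_C_of_natDegree_le_one hRdeg1.le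
  have hv0 : v ≠ 0 := fun h => hRdeg (by rw [hvw, h, map_zero, zero_mul, zero_add, natDegree_C])
  have heq : ∀ ψ : B →ₐ[k] k, ψ (φ v) * ψ a ^ p ^ e + ψ (φ w) = 0 := fun ψ => by
    have := congrArg ψ ((RingHom.mem_ker).mp hfP)
    rw [← hR, hvw] at this
    simpa [Ψ, expand_C, map_add, map_mul, map_pow] using this
  have hvunit : IsUnit v := by
    by_contra hnu
    obtain ⟨π, hπ, hπv⟩ := WfDvdMonoid.exists_irreducible_factor hnu hv0
    have hπ' : Prime π := UniqueFactorizationMonoid.irreducible_iff_prime.mp hπ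
    have hπw : π ∣ w := by
      have hmem : w ∈ MvPolynomial.vanishingIdeal k (MvPolynomial.zeroLocus k (Ideal.span {π})) := by
        rw [MvPolynomial.mem_vanishingIdeal_iff]
        intro x hx
        obtain ⟨ψ, hψ⟩ := hsurj (MvPolynomial.aeval x)
        have h1 : MvPolynomial.aeval x v = (0 : k) := by
          obtain ⟨v', rfl⟩ := hπv
          rw [map_mul, hx π (Ideal.mem_span_singleton_self π), zero_mul]
        rw [← hψ, AlgHom.comp_apply]
        rw [← hψ, AlgHom.comp_apply] at h1
        simpa [h1] using heq ψ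
      rw [MvPolynomial.vanishingIdeal_zeroLocus_eq_radical] at hmem
      rw [((Ideal.span_singleton_prime hπ'.ne_zero).mpr hπ').radical, Ideal.mem_span_singleton] at hmem
      exact hmem
    obtain ⟨v', hv'⟩ := hπv
    obtain ⟨w', hw'⟩ := hπw
    have hfac : R = Polynomial.C π * (Polynomial.C v' * X + Polynomial.C w') := by
      rw [hvw, hv', hw', map_mul, map_mul]; ring
    rcases hRirr.isUnit_or_isUnit hfac with h | h
    · exact hπ.not_isUnit (isUnit_C.mp h)
    · refine hRdeg ?_
      rw [hfac, natDegree_C_mul hπ.ne_zero, natDegree_eq_zero_of_isUnit h]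
  obtain ⟨v', hv'⟩ := hvunit.exists_left_inv
  refine ⟨e, -(v' * w), fun ψ => ?_⟩
  have h1 : ψ (φ v') * ψ (φ v) = 1 := by rw [← map_mul, ← map_mul, hv', map_one, map_one]
  rw [map_neg, map_neg, map_mul, map_mul]
  linear_combination ψ (φ v') * heq ψ - ψ a ^ p ^ e * h1

end Groth.Agent.H27Isog
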