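import Groth.Agent.H27PGrp.Basic
import Groth.Agent.H27Isog.Factor
import Mathlib

/-!
# Subgroups of rational points: density and annihilators
-/

set_option autoImplicit false
set_option linter.style.haveILetI false
universe u

noncomputable section

namespace Groth.Agent.H27Isog

open H27PGrp

variable {k : Type u} [Field k] [IsAlgClosed k] {A : Type u} [CommRing A] [Algebra k A] [Algebra.Smooth k A]
  (G : PGrp k A)

/-- a function vanishing on a subgroup of finite index is zero -/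
theorem eq_zero_of_finite_index [IsDomain A] (L : AddSubgroup G.P) {R : Set G.P} (hR : R.Finite)
    (hcov : ∀ x, ∃ c ∈ R, x - c ∈ L) {a : A} (ha : ∀ x ∈ L, G.pt x a = 0) : a = 0 := by
  classical
  have h0 : ∏ c ∈ hR.toFinset, G.R (-c) a = 0 := G.ext_pt fun x => by
    obtain ⟨c, hc, hxc⟩ := hcov x
    rw [map_prod, map_zero]
    refine Finset.prod_eq_zero (hR.mem_toFinset.mpr hc) ?_
    rw [G.pt_R, ← sub_eq_add_neg]
    exact ha _ hxc
  obtain ⟨c, -, hc⟩ := Finset.prod_eq_zero_iff.mp h0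
  have := congrArg (G.R c) hc
  rwa [G.R_R, add_neg_cancel, G.R_zero, map_zero] at this

/-- a subgroup containing a dense open is everything -/
theorem eq_top_of_open [IsDomain A] (S : AddSubgroup G.P) {s : A} (hs : s ≠ 0)
    (h : ∀ x, G.pt x s ≠ 0 → x ∈ S) : S = ⊤ := by
  refine eq_top_iff.mpr fun y _ => ?_
  have hne : G.neg' (G.R y s) ≠ 0 := fun h0 => hs (G.ext_pt fun x => by
    have := congrArg (G.pt (y - x)) h0
    rw [G.pt_neg', G.pt_R, map_zero, neg_sub, sub_add_cancel] at this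
    rw [this, map_zero])
  obtain ⟨z, hz⟩ : ∃ z, G.pt z (s * G.neg' (G.R y s)) ≠ 0 := by
    by_contra h0
    push Not at h0
    exact mul_ne_zero hs hne (G.ext_pt fun x => by rw [h0 x, map_zero])
  rw [map_mul, mul_ne_zero_iff, G.pt_neg', G.pt_R] at hz
  have h2 := S.add_mem (h z hz.1) (h (-z + y) hz.2)
  rwa [add_neg_cancel_left] at h2

/-- a subgroup containing the image of a dominant map is everything -/
theorem eq_top_of_dominant [IsDomain A] {C : Type u} [CommRing C] [IsDomain C] [Algebra k C] [Algebra.FiniteType k C]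
    (φ : A →ₐ[k] C) (hφ : Function.Injective φ) (S : AddSubgroup G.P)
    (h : ∀ ψ : C →ₐ[k] k, G.pt.symm (ψ.comp φ) ∈ S) : S = ⊤ := by
  obtain ⟨s, hs, hlift⟩ := exists_lift φ hφ
  refine eq_top_of_open G S hs fun x hx => ?_
  obtain ⟨ψ, hψ⟩ := hlift (G.pt x) hx
  have := h ψ
  rwa [hψ, Equiv.symm_apply_apply] at this

variable (p : ℕ) [hp : Fact p.Prime] [CharP k p]

/-- a subgroup which is not dense is killed by a nonzero additive function -/
theorem exists_isAdd_vanishing (N : ℕ) (hN : ∀ x : G.P, p ^ N • x = 0) (H : AddSubgroup G.P) {a : A} (ha : a ≠ 0)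
    (hH : ∀ x ∈ H, G.pt x a = 0) : ∃ f, G.IsAdd f ∧ f ≠ 0 ∧ ∀ x ∈ H, G.pt x f = 0 := by
  classical
  obtain ⟨W₀, hW₀, haW⟩ := G.finiteDimensional_orbit a
  let Good : Submodule k A → Prop := fun W => W ≠ ⊥ ∧ (∀ y ∈ H, ∀ w ∈ W, G.R y w ∈ W) ∧ ∀ w ∈ W, ∀ x ∈ H, G.pt x w = 0
  let V : Submodule k A := Submodule.span k (Set.range fun y : H => G.R (y : G.P) a)
  have hVW : V ≤ W₀ := Submodule.span_le.mpr (by rintro _ ⟨y, rfl⟩; exact haW _)
  haveI : FiniteDimensional k V := Submodule.finiteDimensional_of_le hVW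
  have hV : Good V := by
    refine ⟨fun h0 => ha ?_, fun y hy => ?_, fun w hw x hx => ?_⟩
    · have : G.R 0 a ∈ V := Submodule.subset_span ⟨0, rfl⟩
      rwa [h0, G.R_zero, Submodule.mem_bot] at this
    · have hle : V ≤ V.comap (G.R y).toLinearMap := by
        refine Submodule.span_le.mpr ?_
        rintro _ ⟨z, rfl⟩
        change G.R y (G.R z a) ∈ V
        rw [G.R_R]
        exact Submodule.subset_span ⟨⟨_, H.add_mem hy z.2⟩, rfl⟩
      exact fun w hw => hle hw
    · have hle : V ≤ LinearMap.ker (G.pt x).toLinearMap := by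
        refine Submodule.span_le.mpr ?_
        rintro _ ⟨z, rfl⟩
        change G.pt x (G.R z a) = 0
        rw [G.pt_R]
        exact hH _ (H.add_mem hx z.2)
      exact hle hw
  obtain ⟨d, hd, hmin⟩ : ∃ d, (∃ W, Good W ∧ W ≤ V ∧ Module.finrank k W = d) ∧
      ∀ m < d, ¬ ∃ W, Good W ∧ W ≤ V ∧ Module.finrank k W = m := by
    have hex : ∃ d, ∃ W, Good W ∧ W ≤ V ∧ Module.finrank k W = d := ⟨_, V, hV, le_rfl, rfl⟩
    exact ⟨Nat.find hex, Nat.find_spec hex, fun m hm => Nat.find_min hex hm⟩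
  obtain ⟨W, ⟨hW0, hWst, hWz⟩, hWV, hWd⟩ := hd
  have hfix : ∀ y ∈ H, ∀ w ∈ W, G.R y w = w := by
    intro y hy
    let T : A →ₗ[k] A := (G.R y).toLinearMap - 1
    let W' : Submodule k A := W ⊓ LinearMap.ker T
    have hne : W' ≠ ⊥ := by
      intro hE
      obtain ⟨w, hw, hw0⟩ := Submodule.exists_mem_ne_zero_of_ne_bot hW0
      have hiter : ∀ j, (T ^ j) w ∈ W ∧ (T ^ j) w ≠ 0 := by
        intro j
        induction j with
        | zero => exact ⟨hw, hw0⟩
        | succ j ih =>
          rw [pow_succ', Module.End.mul_apply]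
          refine ⟨sub_mem (hWst y hy _ ih.1) ih.1, fun h0 => ih.2 ?_⟩
          have : (T ^ j) w ∈ W' := ⟨ih.1, h0⟩
          rwa [hE, Submodule.mem_bot] at this
      refine (hiter (p ^ N)).2 ?_
      rw [G.R_sub_id_pow p N hN y]
      rfl
    have hgood : Good W' := by
      refine ⟨hne, fun z hz w hw => ⟨hWst z hz w hw.1, ?_⟩, fun w hw => hWz w hw.1⟩
      change G.R y (G.R z w) - G.R z w = 0
      rw [G.R_R, add_comm y z, ← G.R_R, ← map_sub, show G.R y w - w = 0 from hw.2, map_zero]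
    haveI : FiniteDimensional k W := Submodule.finiteDimensional_of_le hWV
    intro w hw
    have heq : W' = W := by
      refine eq_of_le_of_not_lt inf_le_left fun hlt => ?_
      exact hmin _ (hWd ▸ Submodule.finrank_lt_finrank_of_lt hlt) ⟨W', hgood, inf_le_left.trans hWV, rfl⟩
    exact sub_eq_zero.mp (heq.symm ▸ hw : w ∈ W').2
  obtain ⟨g, hg, hg0⟩ := Submodule.exists_mem_ne_zero_of_ne_bot hW0
  have hgc : g ∉ Submodule.span k ({1} : Set A) := fun hc => hg0 (by
    obtain ⟨c, rfl⟩ := Submodule.mem_span_singleton.mp hc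
    have := hWz _ hg 0 H.zero_mem
    rw [map_smul, map_one, smul_eq_mul, mul_one] at this
    rw [this, zero_smul])
  obtain ⟨f, hf, hf0, hfm⟩ := G.exists_isAdd_mem p N hN g hgc
  refine ⟨f, hf, hf0, fun x hx => ?_⟩
  have hinv : G.R x f = f := by
    have hle : Submodule.span k (Set.range fun y => G.R y g) ⊔ Submodule.span k {1} ≤
        LinearMap.ker ((G.R x).toLinearMap - 1) := by
      refine sup_le (Submodule.span_le.mpr ?_) (Submodule.span_le.mpr ?_)
      · rintro _ ⟨y, rfl⟩
        change G.R x (G.R y g) - G.R y g = 0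
        rw [G.R_R, add_comm x y, ← G.R_R, hfix x hx g hg, sub_self]
      · intro z hz
        rw [Set.mem_singleton_iff.mp hz]
        change G.R x 1 - 1 = 0
        rw [map_one, sub_self]
    exact sub_eq_zero.mp (hle hfm)
  have := congrArg (G.pt 0) hinv
  rwa [G.pt_R, zero_add, PGrp.IsAdd.zero G hf] at this

end Groth.Agent.H27Isog
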