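import Groth.Agent.H27Isog.Prod
import Groth.Agent.H27PGrp.Main
import Mathlib

/-!
# Isogenies onto products of Witt groups
-/

set_option autoImplicit false
set_option linter.style.haveILetI false
universe u

noncomputable section

namespace Groth.Agent.H27Isog

open H27PGrp H27Witt

variable {p : ℕ} [hp : Fact p.Prime] {k : Type u} [Field k] [CharP k p] {B : Type u} [CommRing B] [Algebra k B]
  (G : PGrp k B)

/-- the homomorphism of a family of additive vectors -/
def toPts {ι : Type} {nn : ι → ℕ} (v : ∀ i, TruncatedWittVector p (nn i) B) (hv : ∀ i, G.IsAddW (v i)) :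
    G.P →+ Pts p k nn :=
  AddMonoidHom.mk' (fun x i => tm (G.pt x) (v i)) fun x y => funext fun i => hv i x y

omit [CharP k p] in
theorem toPts_apply {ι : Type} {nn : ι → ℕ} (v : ∀ i, TruncatedWittVector p (nn i) B) (hv : ∀ i, G.IsAddW (v i))
    (x : G.P) (i : ι) : toPts G v hv x i = tm (G.pt x) (v i) := rfl

/-- the algebra map of a family of additive vectors -/
def pullPts {ι : Type} {nn : ι → ℕ} (v : ∀ i, TruncatedWittVector p (nn i) B) :
    MvPolynomial (Coord nn) k →ₐ[k] B :=
  MvPolynomial.aeval fun s => (v s.1).coeff s.2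

omit [CharP k p] in
theorem pt_comp_pullPts {ι : Type} {nn : ι → ℕ} (v : ∀ i, TruncatedWittVector p (nn i) B)
    (hv : ∀ i, G.IsAddW (v i)) (x : G.P) : (G.pt x).comp (pullPts v) = evalPts nn (toPts G v hv x) :=
  MvPolynomial.algHom_ext fun s => by simp [pullPts, evalPts, toPts, coeff_tm]

variable [IsAlgClosed k] [PerfectRing k p] [Algebra.Smooth k B] [IsDomain B]

/-- a map with dense image is surjective -/
theorem surjective_of_injective {ι : Type} [Finite ι] {nn : ι → ℕ} (v : ∀ i, TruncatedWittVector p (nn i) B)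
    (hv : ∀ i, G.IsAddW (v i)) (hinj : Function.Injective (pullPts (k := k) v)) :
    Function.Surjective (toPts G v hv) := by
  haveI : Algebra.FiniteType k B := inferInstance
  refine AddMonoidHom.range_eq_top.mp (eq_top_of_dominant (prodW p k nn) (pullPts v) hinj _ fun ψ => ⟨G.pt.symm ψ, ?_⟩)
  refine ((prodW p k nn).pt.symm_apply_eq.mpr ?_).symm
  change _ = evalPts nn _
  rw [← pt_comp_pullPts, Equiv.apply_symm_apply]

/-- an isogeny onto a product of Witt groups -/
theorem exists_isogeny (N : ℕ) (hN : ∀ x : G.P, p ^ N • x = 0) :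
    ∃ (r : ℕ) (nn : Fin r → ℕ) (v : ∀ i, TruncatedWittVector p (nn i) B) (hv : ∀ i, G.IsAddW (v i)),
      {x | toPts G v hv x = 0}.Finite ∧ Function.Surjective (toPts G v hv) ∧
        Function.Injective (pullPts (k := k) v) := by
  classical
  obtain ⟨r, nn₀, v₀, hv₀, hgen⟩ := PGrp.emb (p := p) G N hN
  let Good : (Fin r → Σ n, TruncatedWittVector p n B) → Prop := fun F =>
    (∀ i, G.IsAddW (F i).2) ∧ {x : G.P | ∀ i, tm (G.pt x) (F i).2 = 0}.Finite
  have hex : ∃ d, ∃ F, Good F ∧ ∑ i, (F i).1 = d := by
    refine ⟨_, fun i => ⟨nn₀ i, v₀ i⟩, ⟨hv₀, (Set.finite_singleton 0).subset fun x hx => ?_⟩, rfl⟩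
    refine G.pt.injective (AlgHom.ext_of_adjoin_eq_top hgen ?_)
    intro b hb
    obtain ⟨i, j, rfl⟩ := Set.mem_iUnion.mp hb
    rw [← coeff_tm, ← coeff_tm, hx i, (hv₀ i).zero G]
  obtain ⟨F, ⟨hFadd, hFfin⟩, hFd⟩ := Nat.find_spec hex
  let nn : Fin r → ℕ := fun i => (F i).1
  let v : ∀ i, TruncatedWittVector p (nn i) B := fun i => (F i).2
  have hv : ∀ i, G.IsAddW (v i) := hFadd
  have hker : {x | toPts G v hv x = 0}.Finite :=
    hFfin.subset fun x hx i => congrFun (hx : toPts G v hv x = 0) i
  suffices hinj : Function.Injective (pullPts (k := k) v) from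
    ⟨r, nn, v, hv, hker, surjective_of_injective G v hv hinj, hinj⟩
  refine (injective_iff_map_eq_zero _).mpr fun a ha => ?_
  by_contra ha0
  -- an additive function killing the image
  obtain ⟨f, hf, hf0, hfz⟩ := exists_isAdd_vanishing (prodW p k nn) p (∑ i, nn i)
    (fun z => prodW_kill nn _ (fun i => Finset.single_le_sum (fun j _ => Nat.zero_le _) (Finset.mem_univ i)) z)
    (toPts G v hv).range ha0 (by
      rintro _ ⟨x, rfl⟩
      rw [prodW_pt, ← pt_comp_pullPts, AlgHom.comp_apply, ha, map_zero])
  -- its components are additive polynomials in the leading coordinates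
  let ev : Pts p k nn →+ k := AddMonoidHom.mk' (fun z => evalPts nn z f) hf
  let lead : ∀ i, TruncatedWittVector p (nn i) k → k := fun i z => ev (Pi.single i z)
  have hQ : ∀ i, ∃ Q : Polynomial k, IsAP Q ∧ ∀ (h : 0 < nn i) z, lead i z = Q.eval (z.coeff ⟨0, h⟩) := by
    intro i
    obtain hi | hi := Nat.eq_zero_or_pos (nn i)
    · exact ⟨0, fun s t => by simp, fun h => absurd h (by omega)⟩
    let w : TruncatedWittVector p 1 (MvPolynomial (Coord nn) k) := TruncatedWittVector.mk p fun _ => f
    let φ : TruncatedWittVector p (nn i) k →+ TruncatedWittVector p 1 k :=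
      AddMonoidHom.mk' (fun z => tm (evalPts nn (Pi.single i z)) w) fun z z' => TruncatedWittVector.ext fun j => by
        rw [Subsingleton.elim j 0, coeff_zero_add]
        simp only [coeff_tm, w, TruncatedWittVector.coeff_mk]
        rw [Pi.single_add]
        exact hf _ _
    have hφ : IsAlgMap φ := isAlgMap_of_single nn i w
    obtain ⟨α, hα, eα⟩ := exists_factor_truncate (show 1 ≤ nn i from hi) φ fun z => pow_nsmul_eq_zero le_rfl _
    obtain ⟨Q, hadd, hQ⟩ := exists_leading (n := 0) α (by
      rw [show (α : TruncatedWittVector p 1 k → _) = fun y => φ (padEnd y) from funext hα]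
      exact hφ.comp isAlgMap_padEnd)
    refine ⟨Q, hadd, fun h z => ?_⟩
    have := hQ (TruncatedWittVector.truncate (show 1 ≤ nn i from hi) z)
    rw [eα, TruncatedWittVector.coeff_truncate] at this
    refine Eq.trans ?_ this
    change evalPts nn (Pi.single i z) f = (tm (evalPts nn (Pi.single i z)) w).coeff 0
    rw [coeff_tm, TruncatedWittVector.coeff_mk]
  choose Q hQadd hQ using hQ
  have hsum : ∀ z : Pts p k nn, ev z = ∑ i, lead i (z i) := fun z => by
    rw [← map_sum, Finset.univ_sum_single]
  let S : Finset (Fin r) := Finset.univ.filter fun i => 0 < nn i ∧ Q i ≠ 0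
  have hlead0 : ∀ i ∉ S, ∀ z, lead i z = 0 := fun i hi z => by
    rcases Nat.eq_zero_or_pos (nn i) with h | h
    · haveI : Subsingleton (TruncatedWittVector p (nn i) k) :=
        ⟨fun a b => TruncatedWittVector.ext fun j => absurd j.2 (by omega)⟩
      simp only [lead, Subsingleton.elim z 0, Pi.single_zero, map_zero]
    · have : Q i = 0 := by
        by_contra hne
        exact hi (Finset.mem_filter.mpr ⟨Finset.mem_univ i, h, hne⟩)
      rw [hQ i h, this, Polynomial.eval_zero]
  have hS : S.Nonempty := by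
    rw [Finset.nonempty_iff_ne_empty]
    intro hS
    refine hf0 ((prodW p k nn).ext_pt fun z => ?_)
    change ev z = _
    rw [hsum, map_zero]
    exact Finset.sum_eq_zero fun i _ => hlead0 i (by rw [hS]; exact Finset.notMem_empty i) _
  obtain ⟨i₀, hi₀S, hmin⟩ := S.exists_min_image nn hS
  obtain ⟨m, hm⟩ : ∃ m, nn i₀ = m + 1 := ⟨nn i₀ - 1, by have := (Finset.mem_filter.mp hi₀S).2.1; omega⟩
  choose φ hφ eφ hφf using fun i => exists_endo (p := p) (Q i) (hQadd i) m
  let ψ : ∀ i, TruncatedWittVector p (nn i) k →+ TruncatedWittVector p (m + 1) k := fun i =>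
    if h : i ∈ S then (φ i).comp
      (TruncatedWittVector.truncate (hm ▸ hmin i h) : TruncatedWittVector p (nn i) k →+* _).toAddMonoidHom
    else 0
  have hψ : ∀ i, IsAlgMap (ψ i) := fun i => by
    simp only [ψ]
    split_ifs with h
    · exact (hφ i).comp (isAlgMap_truncate (hm ▸ hmin i h))
    · exact isAlgMap_const 0
  have hψ0 : ∀ i z, (ψ i z).coeff 0 = lead i z := fun i z => by
    simp only [ψ]
    split_ifs with h
    · change (φ i (TruncatedWittVector.truncate (hm ▸ hmin i h) z)).coeff 0 = _
      rw [eφ, TruncatedWittVector.coeff_truncate, hQ i (Finset.mem_filter.mp h).2.1]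
      rfl
    · rw [hlead0 i h, AddMonoidHom.zero_apply, TruncatedWittVector.coeff_zero]
  -- the new component
  choose w hw using fun i => exists_of_isAlgMap (A := B) (hψ i) (v i)
  obtain ⟨u, hu⟩ := exists_of_isAlgMap (A := B) (isAlgMap_unshift (p := p) (k := k) (Nat.le_succ m)) (∑ i, w i)
  let Ψ : G.P → TruncatedWittVector p (m + 1) k := fun x => ∑ i, ψ i (toPts G v hv x i)
  have hΨ : ∀ x, WittGrp.shift p (Nat.le_succ m) (tm (G.pt x) u) = Ψ x := fun x => by
    rw [hu, map_sum, shift_unshift]
    · exact Finset.sum_congr rfl fun i _ => hw i (G.pt x)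
    intro j hj
    obtain rfl : j = 0 := Fin.ext (by simp only [Fin.val_zero]; change (j : ℕ) < m + 1 - m at hj; omega)
    let c₀ : TruncatedWittVector p (m + 1) k →+ k := AddMonoidHom.mk' (fun a => a.coeff 0) coeff_zero_add
    change c₀ (∑ i, tm (G.pt x) (w i)) = 0
    rw [map_sum, Finset.sum_congr rfl fun i _ => show c₀ (tm (G.pt x) (w i)) = lead i (toPts G v hv x i) by
      rw [hw]; exact hψ0 i _, ← hsum]
    exact hfz _ ⟨x, rfl⟩
  have huadd : G.IsAddW u := fun x y => shift_injective' (Nat.le_succ m) (by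
    rw [map_add (WittGrp.shift p (Nat.le_succ m)), hΨ, hΨ, hΨ]
    simp only [Ψ, map_add, Pi.add_apply, Finset.sum_add_distrib])
  let F' : Fin r → Σ n, TruncatedWittVector p n B := Function.update F i₀ ⟨m, u⟩
  have hgood : Good F' := by
    refine ⟨fun i => ?_, ?_⟩
    · by_cases h : i = i₀
      · rw [h]; simp only [F']; rw [Function.update_self]; exact huadd
      · simp only [F']; rw [Function.update_of_ne h]; exact hFadd i
    · let T : Set (Pts p k nn) := {z | (∀ j, j ≠ i₀ → z j = 0) ∧ ψ i₀ (z i₀) = 0}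
      have hkerψ : {a | ψ i₀ a = 0}.Finite := by
        simp only [ψ, dif_pos hi₀S]
        refine finite_ker_comp _ _ ((Set.finite_singleton 0).subset fun a ha => ?_) (hφf i₀ (Finset.mem_filter.mp hi₀S).2.2)
        refine TruncatedWittVector.ext fun j => ?_
        have ha' : TruncatedWittVector.truncate (hm ▸ hmin i₀ hi₀S : m + 1 ≤ nn i₀) a = 0 := ha
        have h1 := congrArg (TruncatedWittVector.coeff (⟨j, by omega⟩ : Fin (m + 1))) ha'
        rw [TruncatedWittVector.coeff_truncate, TruncatedWittVector.coeff_zero] at h1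
        rw [TruncatedWittVector.coeff_zero]
        exact h1
      have hT : T.Finite := (hkerψ.image (Pi.single i₀)).subset fun z hz => ⟨z i₀, hz.2, funext fun j => by
        by_cases h : j = i₀
        · subst h; rw [Pi.single_eq_same]
        · rw [Pi.single_eq_of_ne h, hz.1 j h]⟩
      refine (finite_preimage_hom (toPts G v hv) hker hT).subset fun x hx => ?_
      let Z : (Σ n, TruncatedWittVector p n B) → Prop := fun q => tm (G.pt x) q.2 = 0
      have hothers : ∀ j, j ≠ i₀ → toPts G v hv x j = 0 := fun j hj => by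
        have h0 : Z (F' j) := hx j
        rw [show F' j = F j from Function.update_of_ne hj _ _] at h0
        exact h0
      refine ⟨hothers, ?_⟩
      have h1 : Z (F' i₀) := hx i₀
      rw [show F' i₀ = ⟨m, u⟩ from Function.update_self _ _ _] at h1
      have h2 := hΨ x
      rw [show tm (G.pt x) u = 0 from h1, map_zero] at h2
      simp only [Ψ] at h2
      rw [Finset.sum_eq_single i₀ (fun j _ hj => by rw [hothers j hj, map_zero])
        (fun h => absurd (Finset.mem_univ _) h)] at h2
      exact h2.symm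
  have hlt : ∑ i, (F' i).1 < ∑ i, (F i).1 := by
    refine Finset.sum_lt_sum (fun i _ => ?_) ⟨i₀, Finset.mem_univ _, ?_⟩
    · by_cases h : i = i₀
      · subst h; simp only [F', Function.update_self]; exact (Nat.le_succ m).trans hm.ge
      · simp only [F']; rw [Function.update_of_ne h]
    · simp only [F', Function.update_self]; change m < nn i₀; omega
  exact Nat.find_min hex (hFd ▸ hlt) ⟨F', hgood, rfl⟩

end Groth.Agent.H27Isog
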