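import Groth.Agent.H27Isog.Scheme
import Groth.Agent.H27Isog.Reverse
import Mathlib

/-!
# Isogenies between unipotent groups and products of Witt groups
-/

set_option autoImplicit false
set_option linter.style.haveILetI false
universe u

open CategoryTheory CategoryTheory.Limits MonoidalCategory CartesianMonoidalCategory MonObj AlgebraicGeometry
open Groth.Agent.H27Witt Groth.Agent.H27PGrp

noncomputable section

namespace Groth.Agent.H27Isog

variable {p : ℕ} [hp : Fact p.Prime] {k : Type u} [Field k] [IsAlgClosed k] [CharP k p]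
  {r : ℕ} {nn : Fin r → ℕ} {P : Over (Sk k)} [GrpObj P]
  {proj : ∀ j : Fin r, P ⟶ WittGrp.W p (nn j) (Sk k)} [∀ j, IsMonHom (proj j)]
  (hP : IsLimit (Fan.mk P proj))
  (G : Over (Sk k)) [GrpObj G] [IsCommMonObj G] [IsAffine G.left] [Smooth G.hom]

include hP

/-- a pointwise isogeny to a product gives an isogeny -/
theorem exists_isogeny_to (v : ∀ i, TruncatedWittVector p (nn i) (Fn G)) (hv : ∀ i, (pgrp G).IsAddW (v i))
    (hker : {x | toPts (pgrp G) v hv x = 0}.Finite) (hsurj : Function.Surjective (toPts (pgrp G) v hv)) :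
    ∃ f : G ⟶ P, IsMonHom f ∧ SGA7.IsIsogenyOver f := by
  haveI := isAffine_P hP
  haveI := smooth_P hP
  haveI : IsSeparated P.hom := H19Grp.PointsDense.isSeparated_grp P
  choose φ hφ hcoord using fun i => exists_monHom G (v i) (hv i)
  let f : G ⟶ P := hP.lift (Fan.mk G φ)
  have hf : ∀ j, f ≫ proj j = φ j := fun j => hP.fac (Fan.mk G φ) ⟨j⟩
  have hz : ∀ x : T0 k ⟶ G, zOf proj (x ≫ f) = toPts (pgrp G) v hv (Additive.ofMul x) := fun x => funext fun j => by
    refine pt_injective ?_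
    rw [← comp_proj, Category.assoc, hf, comp_eq_pt (φ j) x]
    refine congrArg pt (TruncatedWittVector.ext fun i => ?_)
    rw [coeff_tm, TruncatedWittVector.coeff_mk, toPts_apply, coeff_tm, hcoord]
    rfl
  have hmon : IsMonHom f := isMonHom_of_pts f fun x y => (zOf_bijective hP).1 (by
    rw [zOf_mul, hz, hz, hz, ← map_add]
    rfl)
  refine ⟨f, hmon, isIsogenyOver_of_pts f (fun y => ?_) ?_⟩
  · obtain ⟨x, hx⟩ := hsurj (zOf proj y)
    exact ⟨Additive.toMul x, (zOf_bijective hP).1 ((hz _).trans hx)⟩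
  · refine (hker.image fun x => (Additive.toMul x : T0 k ⟶ G)).subset fun x hx => ⟨Additive.ofMul x, ?_, rfl⟩
    change toPts (pgrp G) v hv (Additive.ofMul x) = 0
    rw [← hz, show x ≫ f = 1 from hx, zOf_one]

/-- a pointwise isogeny from a product gives an isogeny -/
theorem exists_isogeny_from (g : Fn G →ₐ[k] MvPolynomial (Coord nn) k) (Φ : Pts p k nn →+ (pgrp G).P)
    (hΦ : ∀ z, (pgrp G).pt (Φ z) = (evalPts nn z).comp g) (hker : {z | Φ z = 0}.Finite)
    (hsurj : Function.Surjective Φ) : ∃ f : P ⟶ G, IsMonHom f ∧ SGA7.IsIsogenyOver f := by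
  haveI := isAffine_P hP
  haveI := smooth_P hP
  haveI : IsSeparated G.hom := H19Grp.PointsDense.isSeparated_grp G
  obtain ⟨f, hf⟩ := Fn.exists_hom (X := P) (Y := G) ((crdP proj).comp g)
  have hz : ∀ x : T0 k ⟶ P, x ≫ f = Additive.toMul (Φ (zOf proj x)) := fun x => Fn.point_ext (AlgHom.ext fun a => ?_)
  swap
  · have h1 := AlgHom.congr_fun (hΦ (zOf proj x)) a
    rw [← ev_comp_crdP] at h1
    rw [← Fn.ev_pull, hf]
    exact h1.symm
  have hmon : IsMonHom f := isMonHom_of_pts f fun x y => by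
    rw [hz, hz, hz, zOf_mul, map_add]
    rfl
  refine ⟨f, hmon, isIsogenyOver_of_pts f (fun y => ?_) ?_⟩
  · obtain ⟨z, hz'⟩ := hsurj (Additive.ofMul y)
    obtain ⟨x, rfl⟩ := (zOf_bijective hP).2 z
    exact ⟨x, by rw [hz, hz']; rfl⟩
  · refine (hker.preimage (f := zOf proj) (zOf_bijective hP).1.injOn).subset fun x hx => ?_
    change Φ (zOf proj x) = 0
    have h0 : Additive.toMul (Φ (zOf proj x)) = (1 : T0 k ⟶ G) := (hz x).symm.trans hx
    exact Additive.toMul.injective h0

/-- an isogeny to a product on rational points -/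
theorem pointwise_of_isogeny_to (f : G ⟶ P) [IsMonHom f] (hf : SGA7.IsIsogenyOver f) :
    ∃ (v : ∀ i, TruncatedWittVector p (nn i) (Fn G)) (hv : ∀ i, (pgrp G).IsAddW (v i)),
      {x | toPts (pgrp G) v hv x = 0}.Finite ∧ Function.Surjective (toPts (pgrp G) v hv) := by
  haveI := isAffine_P hP
  haveI := smooth_P hP
  obtain ⟨hsurj, hfin⟩ := pts_of_isIsogenyOver f hf
  let v : ∀ i, TruncatedWittVector p (nn i) (Fn G) := fun i => tm (Fn.pull f) (crdV proj i)
  have hz : ∀ (x : (pgrp G).P) i, tm ((pgrp G).pt x) (v i) = zOf proj (Additive.toMul x ≫ f) i := fun x i => by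
    rw [tm_comp]
    rfl
  have hv : ∀ i, (pgrp G).IsAddW (v i) := fun i x y => by
    rw [hz, hz, hz, ← Pi.add_apply, ← zOf_mul, ← MonObj.mul_comp]
    rfl
  refine ⟨v, hv, ?_, fun z => ?_⟩
  · refine (hfin.preimage (f := fun x : (pgrp G).P => (Additive.toMul x : T0 k ⟶ G))
      Additive.toMul.injective.injOn).subset fun x hx => ?_
    refine (zOf_bijective hP).1 ?_
    rw [zOf_one]
    exact funext fun i => (hz x i).symm.trans (congrFun hx i)
  · obtain ⟨y, rfl⟩ := (zOf_bijective hP).2 z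
    obtain ⟨x, rfl⟩ := hsurj y
    exact ⟨Additive.ofMul x, funext fun i => hz (Additive.ofMul x) i⟩

/-- an isogeny from a product on rational points -/
theorem pointwise_of_isogeny_from (f : P ⟶ G) [IsMonHom f] (hf : SGA7.IsIsogenyOver f) :
    ∃ (g : Fn G →ₐ[k] MvPolynomial (Coord nn) k) (Φ : Pts p k nn →+ (pgrp G).P),
      (∀ z, (pgrp G).pt (Φ z) = (evalPts nn z).comp g) ∧ {z | Φ z = 0}.Finite ∧ Function.Surjective Φ := by
  haveI := isAffine_P hP
  haveI := smooth_P hP
  obtain ⟨hsurj, hfin⟩ := pts_of_isIsogenyOver f hf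
  let e := AlgEquiv.ofBijective (crdP proj) (crdP_bijective hP)
  let Z := Equiv.ofBijective (zOf proj) (zOf_bijective hP)
  refine ⟨e.symm.toAlgHom.comp (Fn.pull f),
    AddMonoidHom.mk' (fun z => (Additive.ofMul (Z.symm z ≫ f) : (pgrp G).P)) fun z z' => ?_, fun z => ?_, ?_, fun y => ?_⟩
  · have h : Z.symm (z + z') = Z.symm z * Z.symm z' := by
      rw [Equiv.symm_apply_eq]
      change z + z' = zOf proj (Z.symm z * Z.symm z')
      rw [zOf_mul]
      exact congrArg₂ (· + ·) (Z.apply_symm_apply z).symm (Z.apply_symm_apply z').symm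
    rw [h, MonObj.mul_comp]
    rfl
  · refine AlgHom.ext fun a => ?_
    change Fn.ev (Z.symm z ≫ f) a = evalPts nn z (e.symm (Fn.pull f a))
    rw [← Fn.ev_pull, show evalPts nn z = (Fn.ev (Z.symm z)).comp (crdP proj) by
      rw [ev_comp_crdP]; exact congrArg (evalPts nn) (Z.apply_symm_apply z).symm]
    exact congrArg (Fn.ev (Z.symm z)) (e.apply_symm_apply _).symm
  · refine (hfin.image (zOf proj)).subset fun z hz => ⟨Z.symm z, ?_, Z.apply_symm_apply z⟩
    exact congrArg Additive.toMul (show Additive.ofMul (Z.symm z ≫ f) = (0 : Additive (T0 k ⟶ G)) from hz)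
  · obtain ⟨x, hx⟩ := hsurj (Additive.toMul y)
    refine ⟨zOf proj x, ?_⟩
    change Additive.ofMul (Z.symm (Z x) ≫ f) = y
    rw [Z.symm_apply_apply, hx]
    rfl

end Groth.Agent.H27Isog
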