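import Groth.Agent.H27PGrp.Emb
import Groth.Agent.H27Isog.Dense
import Groth.Agent.H27Isog.Alg
import Mathlib

/-!
# Finite products of truncated Witt vectors as affine groups
-/

set_option autoImplicit false
set_option linter.style.haveILetI false
universe u

noncomputable section

namespace Groth.Agent.H27Isog

open H27PGrp H27Witt

variable {p : ℕ} [hp : Fact p.Prime] {k : Type u} [Field k] {ι : Type} (nn : ι → ℕ)

/-- the coordinates of a product of Witt groups -/
abbrev Coord : Type := Σ i, Fin (nn i)

/-- the points of a product of Witt groups -/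
abbrev Pts (p : ℕ) (k : Type u) (nn : ι → ℕ) : Type u := ∀ i, TruncatedWittVector p (nn i) k

instance smooth_mvPolynomial {σ : Type} [Finite σ] : Algebra.Smooth k (MvPolynomial σ k) :=
  ⟨inferInstance, inferInstance⟩

/-- the coordinate vectors -/
def crd (i : ι) : TruncatedWittVector p (nn i) (MvPolynomial (Coord nn) k) :=
  TruncatedWittVector.mk p fun j => MvPolynomial.X ⟨i, j⟩

/-- evaluation at a point -/
def evalPts : Pts p k nn ≃ (MvPolynomial (Coord nn) k →ₐ[k] k) where
  toFun z := MvPolynomial.aeval fun s => (z s.1).coeff s.2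
  invFun χ i := tm χ (crd (p := p) nn i)
  left_inv z := funext fun i => TruncatedWittVector.ext fun j => by
    rw [coeff_tm, crd, TruncatedWittVector.coeff_mk, MvPolynomial.aeval_X]
  right_inv χ := MvPolynomial.algHom_ext fun s => by
    rw [MvPolynomial.aeval_X, coeff_tm, crd, TruncatedWittVector.coeff_mk]

theorem tm_evalPts_crd (z : Pts p k nn) (i : ι) : tm (evalPts nn z) (crd (p := p) nn i) = z i :=
  congrFun ((evalPts nn).symm_apply_apply z) i

theorem exists_split {σ : Type} (c : MvPolynomial (σ ⊕ σ) k) :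
    ∃ (n : ℕ) (b d : Fin n → MvPolynomial σ k), ∀ x y : σ → k,
      MvPolynomial.eval (Sum.elim x y) c = ∑ i, MvPolynomial.eval x (b i) * MvPolynomial.eval y (d i) := by
  induction c using MvPolynomial.induction_on with
  | C c => exact ⟨1, fun _ => MvPolynomial.C c, fun _ => 1, fun x y => by simp⟩
  | add P Q hP hQ =>
    obtain ⟨n, b, d, h⟩ := hP
    obtain ⟨n', b', d', h'⟩ := hQ
    exact ⟨n + n', Fin.append b b', Fin.append d d', fun x y => by
      rw [map_add, h, h', Fin.sum_univ_add]; simp⟩
  | mul_X P s hP =>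
    obtain ⟨n, b, d, h⟩ := hP
    cases s with
    | inl s => exact ⟨n, fun i => b i * MvPolynomial.X s, d, fun x y => by
        rw [map_mul, h, MvPolynomial.eval_X, Sum.elim_inl, Finset.sum_mul]
        exact Finset.sum_congr rfl fun i _ => by rw [map_mul, MvPolynomial.eval_X]; ring⟩
    | inr s => exact ⟨n, b, fun i => d i * MvPolynomial.X s, fun x y => by
        rw [map_mul, h, MvPolynomial.eval_X, Sum.elim_inr, Finset.sum_mul]
        exact Finset.sum_congr rfl fun i _ => by rw [map_mul, MvPolynomial.eval_X]; ring⟩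

/-- a product of Witt groups -/
def prodW (p : ℕ) [Fact p.Prime] (k : Type u) [Field k] (nn : ι → ℕ) : PGrp k (MvPolynomial (Coord nn) k) where
  P := Pts p k nn
  pt := evalPts nn
  decomp a := by
    let S : ∀ i, TruncatedWittVector p (nn i) (MvPolynomial (Coord nn ⊕ Coord nn) k) := fun i =>
      tm (MvPolynomial.rename (R := k) Sum.inl) (crd (p := p) nn i) +
        tm (MvPolynomial.rename (R := k) Sum.inr) (crd (p := p) nn i)
    obtain ⟨n, b, d, h⟩ := exists_split (MvPolynomial.aeval (fun s : Coord nn => (S s.1).coeff s.2) a)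
    refine ⟨n, b, d, fun x y => ?_⟩
    let χ : MvPolynomial (Coord nn ⊕ Coord nn) k →ₐ[k] k :=
      MvPolynomial.aeval (Sum.elim (fun s => (x s.1).coeff s.2) fun s => (y s.1).coeff s.2)
    have hl : χ.comp (MvPolynomial.rename Sum.inl) = evalPts nn x :=
      MvPolynomial.algHom_ext fun s => by simp [χ, evalPts]
    have hr : χ.comp (MvPolynomial.rename Sum.inr) = evalPts nn y :=
      MvPolynomial.algHom_ext fun s => by simp [χ, evalPts]
    have hS : χ.comp (MvPolynomial.aeval fun s : Coord nn => (S s.1).coeff s.2) = evalPts nn (x + y) := by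
      refine MvPolynomial.algHom_ext fun s => ?_
      rw [AlgHom.comp_apply, MvPolynomial.aeval_X, ← coeff_tm]
      simp only [S, map_add, tm_comp, hl, hr, tm_evalPts_crd]
      simp [evalPts]
    change evalPts nn (x + y) a = _
    rw [← hS, AlgHom.comp_apply]
    refine (h _ _).trans (Finset.sum_congr rfl fun i _ => ?_)
    rfl
  negP a := ⟨MvPolynomial.aeval (fun s : Coord nn => (-crd (p := p) (k := k) nn s.1).coeff s.2) a, fun x => by
    change evalPts nn (-x) a = ((evalPts nn x).comp (MvPolynomial.aeval _)) a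
    congr 1
    refine MvPolynomial.algHom_ext fun s => ?_
    rw [AlgHom.comp_apply, MvPolynomial.aeval_X, ← coeff_tm, map_neg (tm (evalPts nn x)), tm_evalPts_crd]
    simp [evalPts]⟩

@[simp] theorem prodW_pt (z : Pts p k nn) : (prodW p k nn).pt z = evalPts nn z := rfl

theorem isAddW_crd (i : ι) : (prodW p k nn).IsAddW (crd (p := p) nn i) := fun x y => by
  simp only [prodW_pt, tm_evalPts_crd]
  rfl

variable [CharP k p]

theorem prodW_kill (N : ℕ) (hN : ∀ i, nn i ≤ N) (z : Pts p k nn) : p ^ N • z = 0 :=
  funext fun i => pow_nsmul_eq_zero (hN i) (z i)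

omit hp [CharP k p] in
/-- finite sets have finite preimages under maps with finite kernels -/
theorem finite_preimage_hom {X Y : Type*} [AddCommGroup X] [AddCommGroup Y] (φ : X →+ Y)
    (hφ : {x | φ x = 0}.Finite) {T : Set Y} (hT : T.Finite) : (φ ⁻¹' T).Finite := by
  refine Set.Finite.of_finite_fibers φ (hT.subset (Set.image_preimage_subset φ T)) fun y _ => ?_
  rcases Set.eq_empty_or_nonempty (φ ⁻¹' T ∩ φ ⁻¹' {y}) with h | ⟨x₀, hx₀⟩
  · rw [h]; exact Set.finite_empty
  · refine (hφ.image fun z => z + x₀).subset fun x hx => ⟨x - x₀, ?_, sub_add_cancel x x₀⟩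
    change φ (x - x₀) = 0
    rw [map_sub, show φ x = y from hx.2, show φ x₀ = y from hx₀.2, sub_self]

omit [CharP k p] in
/-- polynomial maps on a single factor -/
theorem isAlgMap_of_single [DecidableEq ι] (i : ι) {m : ℕ} (w : TruncatedWittVector p m (MvPolynomial (Coord nn) k)) :
    IsAlgMap fun z : TruncatedWittVector p (nn i) k => tm (evalPts nn (Pi.single i z)) w := by
  classical
  let θ : MvPolynomial (Coord nn) k →ₐ[k] MvPolynomial (Fin (nn i)) k :=
    MvPolynomial.aeval fun s => if h : s.1 = i then MvPolynomial.X (Fin.cast (congrArg nn h) s.2) else 0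
  refine IsAlgMap.of_coeff (fun j => θ (w.coeff j)) fun a j => ?_
  rw [coeff_tm]
  change _ = MvPolynomial.eval _ (θ (w.coeff j))
  rw [← MvPolynomial.aeval_eq_eval]
  change evalPts nn (Pi.single i a) (w.coeff j) = ((MvPolynomial.aeval fun j => a.coeff j).comp θ) (w.coeff j)
  congr 1
  refine MvPolynomial.algHom_ext fun s => ?_
  obtain ⟨i', j'⟩ := s
  simp only [evalPts, Equiv.coe_fn_mk, MvPolynomial.aeval_X, AlgHom.comp_apply, θ]
  by_cases h : i' = i
  · subst h
    simp
  · rw [dif_neg h, map_zero, Pi.single_eq_of_ne h, TruncatedWittVector.coeff_zero]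

end Groth.Agent.H27Isog
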