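import Groth.Agent.H12AlgSp.LocPCancel
import Groth.Agent.H19Grp.PointsEqClosed
import Groth.Agent.H27Witt.Embed
import Groth.Agent.H27Isog.Prod
import Groth.Prelude.Def_SGA7IX
import Mathlib

/-!
# Products of Witt group schemes and isogenies through rational points
-/

set_option autoImplicit false
set_option linter.style.haveILetI false
universe u

open CategoryTheory CategoryTheory.Limits MonoidalCategory CartesianMonoidalCategory MonObj AlgebraicGeometry
open Groth.Agent.H27Witt Groth.Agent.H27PGrp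

noncomputable section

namespace Groth.Agent.H27Isog

variable {p : ℕ} [hp : Fact p.Prime] {k : Type u} [Field k]

/-- a morphism to a Witt group on a point -/
theorem comp_eq_pt {X : Over (Sk k)} {n : ℕ} (φ : X ⟶ WittGrp.W p n (Sk k)) (x : T0 k ⟶ X) :
    x ≫ φ = pt (tm (Fn.ev x)
      (TruncatedWittVector.mk p fun i => (φ.left.appTop (WittGrp.coord p i) : Fn X))) := by
  refine WittGrp.pts_injective p _ ?_
  dsimp only
  rw [pts_pt, WittGrp.pts_comp]
  refine TruncatedWittVector.ext fun i => ?_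
  rw [WittGrp.coeff_truncMap, WittGrp.coeff_truncMap, WittGrp.coeff_pts]
  refine Eq.trans ?_ (congrArg (struct (T0 k)) (coeff_tm (Fn.ev x) _ i).symm)
  rw [TruncatedWittVector.coeff_mk]
  exact (struct_gamma _).symm

variable {r : ℕ} {nn : Fin r → ℕ} {P : Over (Sk k)}
  {proj : ∀ j : Fin r, P ⟶ WittGrp.W p (nn j) (Sk k)}

/-- the coordinate vectors on a product -/
def crdV (proj : ∀ j : Fin r, P ⟶ WittGrp.W p (nn j) (Sk k)) (j : Fin r) : TruncatedWittVector p (nn j) (Fn P) :=
  TruncatedWittVector.mk p fun i => ((proj j).left.appTop (WittGrp.coord p i) : Fn P)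

/-- coordinates on a product -/
def crdP (proj : ∀ j : Fin r, P ⟶ WittGrp.W p (nn j) (Sk k)) : MvPolynomial (Coord nn) k →ₐ[k] Fn P :=
  MvPolynomial.aeval fun s => (crdV proj s.1).coeff s.2

theorem ext_proj (hP : IsLimit (Fan.mk P proj)) {T : Over (Sk k)} {g g' : T ⟶ P}
    (h : ∀ j, g ≫ proj j = g' ≫ proj j) : g = g' :=
  hP.hom_ext fun j => h j.as

section affine

variable (hP : IsLimit (Fan.mk P proj))
include hP

theorem exists_iso : ∃ e : P ≅ Over.mk (Spec.map (CommRingCat.ofHom (algebraMap k (MvPolynomial (Coord nn) k)))),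
    Fn.pull e.hom = (crdP proj).comp (Fn.specAlg (MvPolynomial (Coord nn) k)).symm.toAlgHom := by
  let PS : Over (Sk k) := Over.mk (Spec.map (CommRingCat.ofHom (algebraMap k (MvPolynomial (Coord nn) k))))
  let A := Fn.specAlg (k := k) (MvPolynomial (Coord nn) k)
  haveI : IsAffine PS.left := inferInstanceAs (IsAffine (Spec _))
  obtain ⟨h₁, e₁⟩ := Fn.exists_hom (X := P) (Y := PS) ((crdP proj).comp A.symm.toAlgHom)
  let comp' : ∀ j, PS ⟶ WittGrp.W p (nn j) (Sk k) := fun j => (WittGrp.ptsMul p PS).symm (Multiplicative.ofAdd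
    ((TruncatedWittVector.mk p fun i => (A (MvPolynomial.X ⟨j, i⟩) : Fn PS)) :
      TruncatedWittVector p (nn j) Γ(PS.left, ⊤)))
  let h₂ : PS ⟶ P := hP.lift (Fan.mk PS comp')
  have hc : ∀ j, h₂ ≫ proj j = comp' j := fun j => hP.fac (Fan.mk PS comp') ⟨j⟩
  have hpts : ∀ j i, (comp' j).left.appTop (WittGrp.coord p i) = A (MvPolynomial.X ⟨j, i⟩) := fun j i => by
    have h := congrArg (TruncatedWittVector.coeff i) (show WittGrp.pts p PS (Additive.ofMul (comp' j)) = _ from
      (WittGrp.ptsMul p PS).apply_symm_apply (Multiplicative.ofAdd _))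
    rw [WittGrp.coeff_pts] at h
    exact h.trans (TruncatedWittVector.coeff_mk _ i)
  have h21 : h₂ ≫ h₁ = 𝟙 PS := by
    refine Fn.hom_ext ?_
    rw [Fn.pull_comp, e₁, Fn.pull_id]
    refine AlgHom.ext fun a => ?_
    obtain ⟨a, rfl⟩ := A.surjective a
    simp only [AlgHom.comp_apply, AlgEquiv.coe_algHom, AlgEquiv.symm_apply_apply, AlgHom.id_apply]
    refine AlgHom.congr_fun (φ₁ := (Fn.pull h₂).comp (crdP proj)) (φ₂ := A.toAlgHom) (MvPolynomial.algHom_ext fun s => ?_) a
    rw [AlgHom.comp_apply, crdP, MvPolynomial.aeval_X, crdV, TruncatedWittVector.coeff_mk]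
    refine Eq.trans ?_ (hpts s.1 s.2)
    rw [← hc]
    rfl
  have h12 : h₁ ≫ h₂ = 𝟙 P := by
    refine ext_proj hP fun j => ?_
    rw [Category.assoc, hc, Category.id_comp]
    refine WittGrp.pts_injective p _ (TruncatedWittVector.ext fun i => ?_)
    rw [WittGrp.coeff_pts, WittGrp.coeff_pts]
    change Fn.pull h₁ ((comp' j).left.appTop (WittGrp.coord p i)) = _
    rw [hpts, e₁, AlgHom.comp_apply, AlgEquiv.coe_algHom, AlgEquiv.symm_apply_apply, crdP, MvPolynomial.aeval_X,
      crdV, TruncatedWittVector.coeff_mk]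
  exact ⟨⟨h₁, h₂, h12, h21⟩, e₁⟩

theorem isAffine_P : IsAffine P.left := by
  obtain ⟨e, -⟩ := exists_iso hP
  haveI : IsAffine (Over.mk (Spec.map (CommRingCat.ofHom (algebraMap k (MvPolynomial (Coord nn) k)))) : Over (Sk k)).left :=
    inferInstanceAs (IsAffine (Spec _))
  haveI : IsIso e.hom.left := inferInstanceAs (IsIso ((Over.forget _).mapIso e).hom)
  exact IsAffine.of_isIso e.hom.left

theorem smooth_P : Smooth P.hom := by
  obtain ⟨e, -⟩ := exists_iso hP
  rw [← Over.w e.hom]
  haveI : IsIso e.hom.left := inferInstanceAs (IsIso ((Over.forget _).mapIso e).hom)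
  refine (MorphismProperty.cancel_left_of_respectsIso @Smooth _ _).mpr ?_
  exact HasRingHomProperty.Spec_iff.mpr (RingHom.smooth_algebraMap.mpr inferInstance)

theorem crdP_bijective : Function.Bijective (crdP proj) := by
  obtain ⟨e, he⟩ := exists_iso hP
  let A := Fn.specAlg (k := k) (MvPolynomial (Coord nn) k)
  have h : crdP proj = (Fn.pull e.hom).comp A.toAlgHom := by
    rw [he]
    exact AlgHom.ext fun a => by simp [A]
  rw [h, AlgHom.coe_comp]
  refine Function.Bijective.comp ?_ A.bijective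
  refine ⟨Function.LeftInverse.injective (g := Fn.pull e.inv) fun a => ?_,
    Function.RightInverse.surjective (g := Fn.pull e.inv) fun a => ?_⟩
  · rw [Fn.pull_pull, e.inv_hom_id, Fn.pull_id, AlgHom.id_apply]
  · rw [Fn.pull_pull, e.hom_inv_id, Fn.pull_id, AlgHom.id_apply]

end affine

variable [GrpObj P] [hproj : ∀ j, IsMonHom (proj j)]

/-- the coordinates of a rational point -/
def zOf (proj : ∀ j : Fin r, P ⟶ WittGrp.W p (nn j) (Sk k)) (x : T0 k ⟶ P) : Pts p k nn :=
  fun j => tm (Fn.ev x) (crdV proj j)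

theorem comp_proj (x : T0 k ⟶ P) (j : Fin r) : x ≫ proj j = pt (zOf proj x j) := comp_eq_pt (proj j) x

omit [GrpObj P] hproj in
theorem ev_comp_crdP (x : T0 k ⟶ P) : (Fn.ev x).comp (crdP proj) = evalPts nn (zOf proj x) :=
  MvPolynomial.algHom_ext fun s => by simp [crdP, evalPts, zOf, coeff_tm]

theorem zOf_mul (x y : T0 k ⟶ P) : zOf proj (x * y) = zOf proj x + zOf proj y := funext fun j =>
  pt_injective (by rw [← comp_proj, MonObj.mul_comp, comp_proj, comp_proj, ← pt_add]; rfl)

theorem zOf_one : zOf proj (1 : T0 k ⟶ P) = 0 := funext fun j =>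
  pt_injective (by rw [← comp_proj, MonObj.one_comp, ← pt_zero]; rfl)

omit [GrpObj P] hproj in
theorem zOf_bijective (hP : IsLimit (Fan.mk P proj)) : Function.Bijective (zOf proj) := by
  haveI := isAffine_P hP
  obtain ⟨hi, hs⟩ := crdP_bijective hP
  refine ⟨fun x y h => Fn.point_ext (AlgHom.ext fun a => ?_), fun z => ?_⟩
  · obtain ⟨a, rfl⟩ := hs a
    rw [← AlgHom.comp_apply, ev_comp_crdP, h, ← ev_comp_crdP]
    rfl
  · let e := AlgEquiv.ofBijective (crdP proj) ⟨hi, hs⟩
    obtain ⟨x, hx⟩ := Fn.exists_point ((evalPts nn z).comp e.symm.toAlgHom)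
    refine ⟨x, (evalPts nn).injective ?_⟩
    rw [← ev_comp_crdP, hx]
    exact AlgHom.ext fun a => congrArg (evalPts nn z) (e.symm_apply_apply a)

section isogeny

variable [IsAlgClosed k] {X Y : Over (Sk k)}

theorem surjective_of_pts [LocallyOfFinitePresentation X.hom] [LocallyOfFiniteType Y.hom] [IsAffine X.left]
    [IsAffine Y.left] (f : X ⟶ Y) (h : ∀ y : T0 k ⟶ Y, ∃ x, x ≫ f = y) : Surjective f.left := by
  haveI : LocallyOfFinitePresentation (f.left ≫ Y.hom) := by rw [Over.w f]; infer_instance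
  haveI : LocallyOfFinitePresentation f.left := H12AlgSp.lfp_of_comp f.left Y.hom
  have hc := f.left.isConstructible_image (s := Set.univ) Topology.IsConstructible.univ
  refine ⟨Set.range_eq_univ.mp ?_⟩
  rw [← Set.image_univ]
  refine H19Grp.PointsDense.eq_univ_of_points (K := k) hc fun w => ?_
  obtain ⟨x, hx⟩ := h ((t01 k).hom ≫ w)
  refine ⟨IsLocalRing.closedPoint k, x.left (IsLocalRing.closedPoint k), trivial, ?_⟩
  exact congrArg (fun g : T0 k ⟶ Y => g.left (IsLocalRing.closedPoint k)) hx

theorem isFinite_of_finite_points (N : Over (Sk k)) [IsAffine N.left] [LocallyOfFiniteType N.hom]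
    (h : Finite (T0 k ⟶ N)) : IsFinite N.hom := by
  haveI := Fn.finiteType N
  haveI : IsNoetherianRing (Fn N) := Algebra.FiniteType.isNoetherianRing k _
  haveI : IsJacobsonRing (Fn N) := isJacobsonRing_of_finiteType (A := k)
  let M : Set (Ideal (Fn N)) := Set.range fun x : T0 k ⟶ N => RingHom.ker (Fn.ev x)
  have hmax : ∀ m : Ideal (Fn N), m.IsMaximal → m ∈ M := fun m hm => by
    letI : Field (Fn N ⧸ m) := Ideal.Quotient.field m
    haveI : Algebra.FiniteType k (Fn N ⧸ m) :=
      Algebra.FiniteType.of_surjective (Ideal.Quotient.mkₐ k m) Ideal.Quotient.mk_surjective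
    haveI : Module.Finite k (Fn N ⧸ m) := finite_of_finite_type_of_isJacobsonRing k _
    obtain ⟨x, hx⟩ := Fn.exists_point ((IsAlgClosed.lift : Fn N ⧸ m →ₐ[k] k).comp (Ideal.Quotient.mkₐ k m))
    refine ⟨x, ?_⟩
    change RingHom.ker (Fn.ev x) = m
    rw [hx]
    ext a
    simp [RingHom.mem_ker, Ideal.Quotient.eq_zero_iff_mem]
  haveI : Ring.KrullDimLE 0 (Fn N) := Ring.KrullDimLE.mk₀ fun q hq => by
    have hj := IsJacobsonRing.out' q hq.isRadical
    have hfin : {m : Ideal (Fn N) | q ≤ m ∧ m.IsMaximal}.Finite :=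
      (Set.finite_range _).subset fun m hm => hmax m hm.2
    have hle : hfin.toFinset.inf id ≤ q := by
      refine le_of_le_of_eq ?_ hj
      exact le_sInf fun m hm => Finset.inf_le (hfin.mem_toFinset.mpr hm)
    obtain ⟨m, hm, hmq⟩ := (hq.inf_le').mp hle
    obtain ⟨h1, h2⟩ := hfin.mem_toFinset.mp hm
    exact (le_antisymm h1 hmq) ▸ h2
  haveI : IsArtinianRing (Fn N) := isArtinianRing_iff_krullDimLE_zero.mpr inferInstance
  haveI : Module.Finite k (Fn N) := Module.finite_of_isArtinianRing k _
  have hstr : (struct N).Finite := RingHom.finite_algebraMap.mpr ‹Module.Finite k (Fn N)›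
  refine (HasAffineProperty.iff_of_isAffine (P := @IsFinite)).mpr ⟨‹IsAffine N.left›, ?_⟩
  have e : N.hom.appTop.hom = (struct N).comp (Scheme.ΓSpecIso (CommRingCat.of k)).hom.hom := by
    refine RingHom.ext fun c => ?_
    exact congrArg N.hom.appTop.hom ((Scheme.ΓSpecIso (CommRingCat.of k)).commRingCatIsoToRingEquiv.symm_apply_apply c).symm
  rw [e]
  exact hstr.comp (RingHom.Finite.of_surjective _
    (Scheme.ΓSpecIso (CommRingCat.of k)).commRingCatIsoToRingEquiv.surjective)

variable [GrpObj Y]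

/-- isogenies through rational points -/
theorem isIsogenyOver_of_pts [Smooth X.hom] [Smooth Y.hom] [IsAffine X.left] [IsAffine Y.left] (f : X ⟶ Y)
    (hsurj : ∀ y : T0 k ⟶ Y, ∃ x, x ≫ f = y) (hfin : {x : T0 k ⟶ X | x ≫ f = 1}.Finite) :
    SGA7.IsIsogenyOver f := by
  refine ⟨surjective_of_pts f hsurj, fun N i hN => ?_⟩
  haveI : IsSeparated Y.hom := H19Grp.PointsDense.isSeparated_grp Y
  haveI : Subsingleton (Sk k) := inferInstanceAs (Subsingleton (PrimeSpectrum k))
  haveI : IsClosedImmersion (η[Y]).left :=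
    H19Grp.isClosedImmersion_section_of_subsingleton Y.hom (η[Y]).left (Over.w η[Y])
  haveI : IsClosedImmersion ((Over.forget (Sk k)).map η[Y]) := ‹IsClosedImmersion (η[Y]).left›
  have hpb := hN.map (Over.forget (Sk k))
  haveI : IsClosedImmersion i.left := MorphismProperty.of_isPullback hpb.flip inferInstance
  haveI : IsAffine N.left := isAffine_of_isAffineHom i.left
  haveI : LocallyOfFiniteType N.hom := by rw [← Over.w i]; infer_instance
  haveI : Mono i := (Over.forget _).mono_of_mono_map (inferInstanceAs (Mono i.left))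
  refine isFinite_of_finite_points N (Set.finite_univ_iff.mp ?_)
  refine (hfin.preimage (f := fun n => n ≫ i) fun a _ b _ e => (cancel_mono i).mp e).subset fun n _ => ?_
  change (n ≫ i) ≫ f = 1
  rw [Category.assoc, hN.w, ← Category.assoc, toUnit_unique (n ≫ toUnit N) (toUnit _)]
  exact Hom.one_def.symm

/-- the rational points of an isogeny -/
theorem pts_of_isIsogenyOver [Smooth X.hom] [Smooth Y.hom] [IsAffine X.left] [IsAffine Y.left] (f : X ⟶ Y)
    (hf : SGA7.IsIsogenyOver f) :
    (∀ y : T0 k ⟶ Y, ∃ x, x ≫ f = y) ∧ {x : T0 k ⟶ X | x ≫ f = 1}.Finite := by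
  obtain ⟨hsurj, hker⟩ := hf
  haveI : IsSeparated Y.hom := H19Grp.PointsDense.isSeparated_grp Y
  haveI : JacobsonSpace X.left := LocallyOfFiniteType.jacobsonSpace X.hom
  refine ⟨fun y => ?_, ?_⟩
  · haveI : IsClosedImmersion y.left := isClosedImmersion_of_comp_eq_id _ _ (Over.w y)
    have hpc : IsClosed ({y.left (IsLocalRing.closedPoint k)} : Set _) := by
      have := y.left.isClosedEmbedding.isClosed_range
      rwa [Set.range_eq_singleton (y := y.left (IsLocalRing.closedPoint k)) fun z =>
        congr(y.left $(Subsingleton.elim _ _))] at this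
    obtain ⟨w, hw⟩ := hsurj.surj (y.left (IsLocalRing.closedPoint k))
    obtain ⟨z, hz, hzc⟩ := nonempty_inter_closedPoints
      (Z := f.left ⁻¹' {y.left (IsLocalRing.closedPoint k)}) ⟨w, hw⟩
      (hpc.preimage f.left.continuous).isLocallyClosed
    obtain ⟨x, rfl⟩ := exists_rational_point (W := X) hzc
    exact ⟨x, closedPoint_eq_of_hom _ _ hz⟩
  · let N := pullback f η[Y]
    let i : N ⟶ X := pullback.fst f η[Y]
    have hN : AlgGrp.IsKernel i f := by
      unfold AlgGrp.IsKernel
      rw [show toUnit N = pullback.snd f η[Y] from toUnit_unique _ _]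
      exact IsPullback.of_hasPullback f η[Y]
    haveI : Subsingleton (Sk k) := inferInstanceAs (Subsingleton (PrimeSpectrum k))
    haveI : IsClosedImmersion (η[Y]).left :=
      H19Grp.isClosedImmersion_section_of_subsingleton Y.hom (η[Y]).left (Over.w η[Y])
    haveI : IsClosedImmersion ((Over.forget (Sk k)).map η[Y]) := ‹IsClosedImmersion (η[Y]).left›
    haveI : IsClosedImmersion i.left := MorphismProperty.of_isPullback (hN.map (Over.forget (Sk k))).flip inferInstance
    haveI : IsAffine N.left := isAffine_of_isAffineHom i.left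
    haveI : LocallyOfFiniteType N.hom := by rw [← Over.w i]; infer_instance
    haveI := hker N i hN
    haveI : Module.Finite k (Fn N) := by
      have h := ((HasAffineProperty.iff_of_isAffine (P := @IsFinite) (f := N.hom)).mp inferInstance).2
      have h' : (struct N).Finite := h.comp (RingHom.Finite.of_surjective _
        (Scheme.ΓSpecIso (CommRingCat.of k)).commRingCatIsoToRingEquiv.symm.surjective)
      exact RingHom.finite_algebraMap.mp h'
    haveI : IsArtinianRing (Fn N) := IsArtinianRing.of_finite k (Fn N)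
    haveI : Finite (T0 k ⟶ N) := by
      refine Finite.of_injective (β := MaximalSpectrum (Fn N))
        (fun x => ⟨RingHom.ker (Fn.ev x), RingHom.ker_isMaximal_of_surjective _
          fun c => ⟨algebraMap k _ c, AlgHom.commutes _ c⟩⟩) fun x y h => Fn.point_ext (AlgHom.ext fun a => ?_)
      have hker : RingHom.ker (Fn.ev x) = RingHom.ker (Fn.ev y) := congrArg MaximalSpectrum.asIdeal h
      have hmem : a - algebraMap k _ (Fn.ev x a) ∈ RingHom.ker (Fn.ev x) := by
        rw [RingHom.mem_ker, map_sub, AlgHom.commutes, Algebra.algebraMap_self, RingHom.id_apply, sub_self]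
      rw [hker, RingHom.mem_ker, map_sub, AlgHom.commutes, Algebra.algebraMap_self, RingHom.id_apply,
        sub_eq_zero] at hmem
      exact hmem.symm
    refine (Set.finite_range fun n : T0 k ⟶ N => n ≫ i).subset fun x hx => ?_
    exact ⟨hN.lift x (toUnit _) ((show x ≫ f = 1 from hx).trans Hom.one_def), hN.lift_fst _ _ _⟩

end isogeny

end Groth.Agent.H27Isog
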