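import Groth.Agent.H27Isog.Main
import Groth.Agent.H8Props.FieldDimRing
import Groth.Agent.H27Witt.DimBound
import Mathlib

/-!
# The isogeny theorems for unipotent commutative groups
-/

set_option autoImplicit false
set_option linter.style.haveILetI false
universe u

open CategoryTheory CategoryTheory.Limits MonoidalCategory CartesianMonoidalCategory MonObj AlgebraicGeometry
open Groth.Agent.H27Witt Groth.Agent.H27PGrp

noncomputable section

namespace Groth.Agent.H27Isog

variable (p : ℕ) [hp : Fact p.Prime] {k : Type u} [Field k] [IsAlgClosed k] [CharP k p]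
  (G : Over (Sk k)) [GrpObj G] [IsCommMonObj G] [Smooth G.hom] [ConnectedSpace G.left] [IsAffine G.left]

theorem exists_product (r : ℕ) (nn : Fin r → ℕ) :
    ∃ (P : Over (Sk k)) (_ : GrpObj P) (proj : ∀ j : Fin r, P ⟶ WittGrp.W p (nn j) (Sk k)),
      (∀ j, IsMonHom (proj j)) ∧ Nonempty (IsLimit (Fan.mk P proj)) := by
  haveI : ∀ i, IsAffine (WittGrp.W p (nn i) (Sk k)).left := fun i =>
    inferInstanceAs (IsAffine 𝔸(ULift.{u} (Fin (nn i)); Sk k))
  obtain ⟨P, hP, proj, -, hproj, huniv⟩ := exists_finite_product r (fun i => WittGrp.W p (nn i) (Sk k))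
  exact ⟨P, hP, proj, hproj, ⟨mkFanLimit _ (fun s => (huniv s.pt s.proj).choose)
    (fun s i => (huniv s.pt s.proj).choose_spec.1 i) (fun s m hm => (huniv s.pt s.proj).choose_spec.2 m hm)⟩⟩

/-- unipotent groups are isogenous to products of Witt groups -/
theorem exists_isogeny_prod (hG : Red.HasNoSubtorus k G) :
    ∃ (r : ℕ) (nn : Fin r → ℕ) (P : Over (Sk k)) (_ : GrpObj P)
      (proj : ∀ j : Fin r, P ⟶ WittGrp.W p (nn j) (Sk k)),
      (∀ j, IsMonHom (proj j)) ∧ Nonempty (IsLimit (Fan.mk P proj)) ∧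
      (∃ f : G ⟶ P, IsMonHom f ∧ SGA7.IsIsogenyOver f) ∧ (∃ g : P ⟶ G, IsMonHom g ∧ SGA7.IsIsogenyOver g) := by
  haveI : Algebra.Smooth k (Fn G) := Fn.smooth G
  haveI : IsDomain (Fn G) := Fn.isDomain G
  haveI : PerfectRing k p := PerfectField.toPerfectRing p
  obtain ⟨N, hN⟩ := pgrp_kill (p := p) G hG
  obtain ⟨r, nn, v, hv, hker, hsurj, -⟩ := exists_isogeny (pgrp G) N hN
  obtain ⟨g, Φ, hΦ, hΦk, hΦs⟩ := exists_reverse (pgrp G) N hN v hv hker hsurj
  obtain ⟨P, hP, proj, hproj, ⟨hlim⟩⟩ := exists_product p (k := k) r nn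
  haveI := hproj
  exact ⟨r, nn, P, hP, proj, hproj, ⟨hlim⟩, exists_isogeny_to hlim G v hv hker hsurj,
    exists_isogeny_from hlim G g Φ hΦ hΦk hΦs⟩

variable {r : ℕ} {nn : Fin r → ℕ} {P : Over (Sk k)} [GrpObj P]
  {proj : ∀ j : Fin r, P ⟶ WittGrp.W p (nn j) (Sk k)} [∀ j, IsMonHom (proj j)]

variable {p} in
/-- isogenies to and from a product -/
theorem isogeny_to_iff_from (hG : Red.HasNoSubtorus k G) (hP : IsLimit (Fan.mk P proj)) :
    (∃ f : G ⟶ P, IsMonHom f ∧ SGA7.IsIsogenyOver f) ↔ (∃ g : P ⟶ G, IsMonHom g ∧ SGA7.IsIsogenyOver g) := by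
  classical
  haveI : Algebra.Smooth k (Fn G) := Fn.smooth G
  haveI : IsDomain (Fn G) := Fn.isDomain G
  haveI : PerfectRing k p := PerfectField.toPerfectRing p
  obtain ⟨N, hN⟩ := pgrp_kill (p := p) G hG
  constructor
  · rintro ⟨f, hf, hiso⟩
    obtain ⟨v, hv, hker, hsurj⟩ := pointwise_of_isogeny_to hP G f hiso
    obtain ⟨g, Φ, hΦ, hΦk, hΦs⟩ := exists_reverse (pgrp G) N hN v hv hker hsurj
    exact exists_isogeny_from hP G g Φ hΦ hΦk hΦs
  · rintro ⟨f, hf, hiso⟩
    obtain ⟨g, Φ, hΦ, hΦk, hΦs⟩ := pointwise_of_isogeny_from hP G f hiso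
    obtain ⟨r', nn', v, hv, hker, hsurj, -⟩ := exists_isogeny (pgrp G) N hN
    let u : ∀ i, TruncatedWittVector p (nn' i) (MvPolynomial (Coord nn) k) := fun i => tm g (v i)
    have hz : ∀ z i, tm ((prodW p k nn).pt z) (u i) = toPts (pgrp G) v hv (Φ z) i := fun z i => by
      rw [tm_comp, toPts_apply, hΦ]
      rfl
    have hu : ∀ i, (prodW p k nn).IsAddW (u i) := fun i z z' => by
      rw [hz, hz, hz]
      exact congrFun ((congrArg (toPts (pgrp G) v hv) (map_add Φ z z')).trans (map_add (toPts (pgrp G) v hv) _ _)) i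
    have hk' : {z | toPts (prodW p k nn) u hu z = 0}.Finite :=
      (finite_ker_comp Φ (toPts (pgrp G) v hv) hΦk hker).subset fun z hz' =>
        funext fun i => (hz z i).symm.trans (congrFun hz' i)
    have hs' : Function.Surjective (toPts (prodW p k nn) u hu) := fun y => by
      obtain ⟨x, rfl⟩ := hsurj y
      obtain ⟨z, rfl⟩ := hΦs x
      exact ⟨z, funext fun i => hz z i⟩
    obtain ⟨g', Φ', hΦ', hΦ'k, hΦ's⟩ := exists_reverse (prodW p k nn) (∑ i, nn i)
      (fun z => prodW_kill nn _ (fun i => Finset.single_le_sum (fun j _ => Nat.zero_le _) (Finset.mem_univ i)) z)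
      u hu hk' hs'
    let w : ∀ i, TruncatedWittVector p (nn i) (Fn G) := fun i => tm (pullPts v) (tm g' (crd (p := p) nn i))
    have hw' : ∀ (x : (pgrp G).P) i, tm ((pgrp G).pt x) (w i) = Φ' (toPts (pgrp G) v hv x) i := fun x i => by
      rw [tm_comp, pt_comp_pullPts (pgrp G) v hv, tm_comp, ← hΦ', prodW_pt, tm_evalPts_crd]
    have hw : ∀ i, (pgrp G).IsAddW (w i) := fun i x y => by
      rw [hw', hw', hw', map_add (toPts (pgrp G) v hv), map_add Φ']
      rfl
    refine exists_isogeny_to hP G w hw ?_ ?_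
    · exact (finite_ker_comp (toPts (pgrp G) v hv) Φ' hker hΦ'k).subset fun x hx =>
        funext fun i => (hw' x i).symm.trans (congrFun hx i)
    · intro y
      obtain ⟨z, rfl⟩ := hΦ's y
      obtain ⟨x, rfl⟩ := hsurj z
      exact ⟨x, funext fun i => hw' x i⟩

omit [IsAlgClosed k] in
theorem eq_zero_of_kill {n m : ℕ} (h : ∀ a : TruncatedWittVector p n k, p ^ m • a = 0) : n ≤ m := by
  by_contra hlt
  have := congrArg (TruncatedWittVector.coeff (⟨m, by omega⟩ : Fin n)) (h (WittVector.truncate n 1))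
  rw [← map_nsmul, WittVector.coeff_truncate, TruncatedWittVector.coeff_zero, nsmul_one, Nat.cast_pow] at this
  simp [WittVector.coeff_p_pow] at this

theorem pow_eq_one_iff (m : ℕ) :
    (𝟙 G) ^ (p ^ m) = 1 ↔ ∀ x : (pgrp G).P, p ^ m • x = 0 := by
  haveI : IsSeparated G.hom := H19Grp.PointsDense.isSeparated_grp G
  constructor
  · intro h x
    refine Additive.toMul.injective ?_
    change (Additive.toMul x : T0 k ⟶ G) ^ p ^ m = 1
    rw [← Category.comp_id (Additive.toMul x : T0 k ⟶ G), ← MonObj.comp_pow, h, MonObj.comp_one]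
  · intro h
    refine hom_ext_pts fun x => ?_
    rw [MonObj.comp_pow, Category.comp_id, MonObj.comp_one]
    exact congrArg Additive.toMul (h (Additive.ofMul x))

variable {p} in
/-- periods of products -/
theorem kill_iff_of_surjective (v : ∀ i, TruncatedWittVector p (nn i) (Fn G)) (hv : ∀ i, (pgrp G).IsAddW (v i))
    (hsurj : Function.Surjective (toPts (pgrp G) v hv)) (Φ : Pts p k nn →+ (pgrp G).P) (hΦ : Function.Surjective Φ)
    (m : ℕ) : (∀ x : (pgrp G).P, p ^ m • x = 0) ↔ ∀ i, nn i ≤ m := by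
  classical
  constructor
  · intro h i
    refine eq_zero_of_kill p (k := k) fun a => ?_
    obtain ⟨x, hx⟩ := hsurj (Pi.single i a)
    have := congrFun (congrArg (toPts (pgrp G) v hv) (h x)) i
    rwa [map_nsmul, map_zero, hx, Pi.smul_apply, Pi.single_eq_same] at this
  · intro h x
    obtain ⟨z, rfl⟩ := hΦ x
    rw [← map_nsmul, prodW_kill nn m h z, map_zero]

theorem topologicalKrullDim_eq (v : ∀ i, TruncatedWittVector p (nn i) (Fn G)) (hv : ∀ i, (pgrp G).IsAddW (v i))
    (hker : {x | toPts (pgrp G) v hv x = 0}.Finite) (hinj : Function.Injective (pullPts (k := k) v)) :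
    topologicalKrullDim ↥G.left = (∑ i, nn i : ℕ) := by
  haveI : Algebra.Smooth k (Fn G) := Fn.smooth G
  haveI : IsDomain (Fn G) := Fn.isDomain G
  letI : Algebra (MvPolynomial (Coord nn) k) (Fn G) := (pullPts (k := k) v).toRingHom.toAlgebra
  haveI : IsScalarTower k (MvPolynomial (Coord nn) k) (Fn G) :=
    IsScalarTower.of_algebraMap_eq fun c => ((pullPts (k := k) v).commutes c).symm
  haveI : Algebra.IsAlgebraic (MvPolynomial (Coord nn) k) (Fn G) := ⟨fun a => by
    obtain ⟨g, hg0, hg⟩ := exists_annihilator (pullPts (k := k) v) a fun χ => by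
      have hfin := finite_preimage_hom (toPts (pgrp G) v hv) hker (Set.finite_singleton ((evalPts nn).symm χ))
      refine (hfin.image fun x => (pgrp G).pt x a).subset ?_
      rintro t ⟨ψ, hψ, rfl⟩
      refine ⟨(pgrp G).pt.symm ψ, ?_, by simp⟩
      rw [Set.mem_preimage, Set.mem_singleton_iff, Equiv.eq_symm_apply, ← pt_comp_pullPts,
        Equiv.apply_symm_apply, hψ]
    exact ⟨g, hg0, hg⟩⟩
  have h := H8Props.FieldDim.dim_eq_of_algebraic k (MvPolynomial (Coord nn) k) (Fn G) hinj
  rw [MvPolynomial.ringKrullDim_of_isNoetherianRing, ringKrullDim_eq_zero_of_field, zero_add] at h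
  have e : IsHomeomorph G.left.isoSpec.hom := (Scheme.homeoOfIso G.left.isoSpec).isHomeomorph
  rw [IsHomeomorph.topologicalKrullDim_eq _ e]
  change topologicalKrullDim (PrimeSpectrum (Fn G)) = _
  rw [PrimeSpectrum.topologicalKrullDim_eq_ringKrullDim, ← h]
  simp [Coord, Nat.card_sigma]

omit [GrpObj P] [∀ j, IsMonHom (proj j)] in
/-- the product with one factor -/
theorem fin1_limit (n : ℕ) :
    Nonempty (IsLimit (Fan.mk (WittGrp.W p n (Sk k)) (fun _ : Fin 1 => 𝟙 (WittGrp.W p n (Sk k))))) :=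
  ⟨mkFanLimit _ (fun s => s.proj 0) (fun s j => by
      rw [Subsingleton.elim j 0]; exact Category.comp_id _)
    (fun s m hm => (Category.comp_id m).symm.trans (hm 0))⟩

omit [GrpObj P] [∀ j, IsMonHom (proj j)] in
/-- period and isogenies with a single Witt group -/
theorem period_iff (hG : Red.HasNoSubtorus k G) (n : ℕ) (hdim : topologicalKrullDim ↥G.left = n) :
    ((∀ m : ℕ, (𝟙 G) ^ (p ^ m) = 1 ↔ n ≤ m) ↔
        ∃ f : WittGrp.W p n (Sk k) ⟶ G, IsMonHom f ∧ SGA7.IsIsogenyOver f) ∧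
      ((∀ m : ℕ, (𝟙 G) ^ (p ^ m) = 1 ↔ n ≤ m) ↔
        ∃ f' : G ⟶ WittGrp.W p n (Sk k), IsMonHom f' ∧ SGA7.IsIsogenyOver f') := by
  classical
  haveI : Algebra.Smooth k (Fn G) := Fn.smooth G
  haveI : IsDomain (Fn G) := Fn.isDomain G
  haveI : PerfectRing k p := PerfectField.toPerfectRing p
  haveI : IsSeparated G.hom := H19Grp.PointsDense.isSeparated_grp G
  obtain ⟨hP⟩ := fin1_limit p (k := k) n
  have hiff := isogeny_to_iff_from G hG hP
  suffices h : ((∀ m : ℕ, (𝟙 G) ^ (p ^ m) = 1 ↔ n ≤ m) ↔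
      ∃ f' : G ⟶ WittGrp.W p n (Sk k), IsMonHom f' ∧ SGA7.IsIsogenyOver f') from ⟨h.trans hiff, h⟩
  obtain ⟨N, hN⟩ := pgrp_kill (p := p) G hG
  constructor
  · intro hper
    obtain ⟨r, nn, v, hv, hker, hsurj, hinj⟩ := exists_isogeny (pgrp G) N hN
    obtain ⟨g, Φ, -, -, hΦs⟩ := exists_reverse (pgrp G) N hN v hv hker hsurj
    have hk := fun m => (pow_eq_one_iff p G m).symm.trans (hper m)
    simp only [kill_iff_of_surjective G v hv hsurj Φ hΦs] at hk
    have hsum : ∑ i, nn i = n := by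
      have := topologicalKrullDim_eq p G v hv hker hinj
      rw [hdim] at this
      exact_mod_cast this.symm
    obtain rfl | hn := Nat.eq_zero_or_pos n
    · -- a point
      have hzero : ∀ i, nn i = 0 := fun i => by have := (hk 0).mpr le_rfl i; omega
      refine exists_isogeny_to hP G (fun _ => 0) (fun _ x y => TruncatedWittVector.ext fun i => i.elim0) ?_ ?_
      · refine hker.subset fun x _ => funext fun i => TruncatedWittVector.ext fun j => ?_
        exact absurd j.2 (by have := hzero i; omega)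
      · exact fun y => ⟨0, funext fun _ => TruncatedWittVector.ext fun i => i.elim0⟩
    obtain ⟨i, hi⟩ : ∃ i, nn i = n := by
      by_contra hne
      push Not at hne
      have h1 : ∀ i, nn i ≤ n := (hk n).mpr le_rfl
      have h2 := (hk (n - 1)).mp fun i => by have := h1 i; have := hne i; omega
      omega
    subst hi
    have hother : ∀ j, j ≠ i → nn j = 0 := fun j hj => by
      have h1 := Finset.add_sum_erase Finset.univ nn (Finset.mem_univ i)
      have h2 : nn j ≤ ∑ l ∈ Finset.univ.erase i, nn l :=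
        Finset.single_le_sum (fun l _ => Nat.zero_le _) (Finset.mem_erase.mpr ⟨hj, Finset.mem_univ j⟩)
      omega
    refine exists_isogeny_to hP G (fun _ => v i) (fun _ => hv i) ?_ ?_
    · refine hker.subset fun x hx => funext fun j => ?_
      by_cases hj : j = i
      · subst hj; exact congrFun hx 0
      · exact TruncatedWittVector.ext fun l => absurd l.2 (by have := hother j hj; omega)
    · intro y
      obtain ⟨x, hx⟩ := hsurj (Pi.single i (y 0))
      refine ⟨x, funext fun j => ?_⟩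
      have h := congrFun hx i
      rw [Pi.single_eq_same] at h
      rw [Subsingleton.elim j 0]
      exact h
  · rintro ⟨f, hf, hiso⟩ m
    obtain ⟨v, hv, hker, hsurj⟩ := pointwise_of_isogeny_to hP G f hiso
    rw [pow_eq_one_iff]
    obtain ⟨g, Φ, -, -, hΦs⟩ := exists_reverse (pgrp G) N hN v hv hker hsurj
    rw [kill_iff_of_surjective G v hv hsurj Φ hΦs]
    exact ⟨fun h => h 0, fun h _ => h⟩

end Groth.Agent.H27Isog
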